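import Mathlib

set_option autoImplicit false

/-!
Group-theoretic lemmas: descending a homomorphism to the range of another, and `ℤˣ × ℤˣ` as the
Klein four-group.
-/

namespace Cfsg.Agent.Lib.Helper5.OrthAut

section Lift

variable {G A B : Type*} [Group G] [Group A] [Group B]

/-- descend `φ₀` along `f` to a homomorphism on the range of `f` -/
theorem exists_hom_range (f : G →* A) (φ₀ : G →* B) (hsurj : Function.Surjective φ₀)
    (S : Subgroup G) (hker : φ₀.ker = S ⊔ f.ker) :
    ∃ φ : ↥f.range →* B, Function.Surjective φ ∧ φ.ker = (S.map f).subgroupOf f.range := by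
  have hle : f.rangeRestrict.ker ≤ φ₀.ker := by
    rw [MonoidHom.ker_rangeRestrict, hker]
    exact le_sup_right
  set φ := f.rangeRestrict.liftOfSurjective f.rangeRestrict_surjective ⟨φ₀, hle⟩ with hφdef
  have hφ : ∀ g, φ (f.rangeRestrict g) = φ₀ g := fun g =>
    MonoidHom.liftOfRightInverse_comp_apply _ _ _ ⟨φ₀, hle⟩ g
  refine ⟨φ, ?_, ?_⟩
  · intro b
    obtain ⟨g, rfl⟩ := hsurj b
    exact ⟨f.rangeRestrict g, hφ g⟩
  · ext ⟨a, g, rfl⟩
    have h1 : (⟨f g, g, rfl⟩ : ↥f.range) = f.rangeRestrict g := rfl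
    rw [MonoidHom.mem_ker, h1, hφ, ← MonoidHom.mem_ker, hker, Subgroup.mem_subgroupOf,
      Subgroup.mem_map]
    constructor
    · intro h
      rw [Subgroup.mem_sup_of_normal_right] at h
      obtain ⟨s, hs, k, hk, rfl⟩ := h
      refine ⟨s, hs, ?_⟩
      show f s = f (s * k)
      rw [map_mul, MonoidHom.mem_ker.1 hk, mul_one]
    · rintro ⟨s, hs, hsg⟩
      have hsg' : f s = f g := hsg
      have h2 : g = s * (s⁻¹ * g) := by group
      rw [h2]
      refine mul_mem (Subgroup.mem_sup_left hs) (Subgroup.mem_sup_right ?_)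
      rw [MonoidHom.mem_ker, map_mul, map_inv, hsg', inv_mul_cancel]

end Lift

/-- `ℤˣ × ℤˣ` as the Klein four-group -/
def z22 : ℤˣ × ℤˣ →* Multiplicative (ZMod 2 × ZMod 2) where
  toFun p := Multiplicative.ofAdd ((if p.1 = 1 then 0 else 1, if p.2 = 1 then 0 else 1) :
    ZMod 2 × ZMod 2)
  map_one' := by decide
  map_mul' := by decide

lemma z22_surjective : Function.Surjective z22 := by decide

lemma z22_eq_one_iff (p : ℤˣ × ℤˣ) : z22 p = 1 ↔ p.1 = 1 ∧ p.2 = 1 := by
  revert p
  decide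

end Cfsg.Agent.Lib.Helper5.OrthAut
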