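import Mathlib
import Cfsg.Prelude.Def_LieTypeDatum
import Cfsg.Agent.H9.OrthA

set_option autoImplicit false
set_option linter.unusedSectionVars false
open Cfsg

/-!
Conjugation by similarities of a quadratic form `Q`, as automorphisms of `PΩ(Q)`.
-/

namespace Cfsg.Agent.Lib.Helper5.OrthAut

open Matrix Cfsg.Agent.H9.Orth

section Conj

variable {ι : Type} [Fintype ι] [DecidableEq ι] {F : Type*} [Field F] {Q : (ι → F) → F}

lemma iso_le_GO : Cfsg.isometryGroup F Q ≤ Cfsg.Geo.quadSimilarityGroup (F := F) Q := by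
  intro g hg
  refine ⟨1, fun v => ?_⟩
  rw [Units.val_one, one_mul]
  exact (mem_isometryGroup_iff g).1 hg v

lemma conj_mem_iso (g : GL ι F) (hg : g ∈ Cfsg.Geo.quadSimilarityGroup (F := F) Q) (s : GL ι F)
    (hs : s ∈ Cfsg.isometryGroup F Q) : g * s * g⁻¹ ∈ Cfsg.isometryGroup F Q := by
  rw [mem_isometryGroup_iff] at hs ⊢
  obtain ⟨c, hc⟩ := hg
  intro x
  rw [act_mul, act_mul]
  have h1 : Q (act g (act s (act g⁻¹ x))) = (c : F) * Q (act s (act g⁻¹ x)) := hc _
  have h2 : Q (act g (act g⁻¹ x)) = (c : F) * Q (act g⁻¹ x) := hc _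
  rw [h1, hs, ← h2, act_act_inv]

/-- conjugation by a similarity, as an endomorphism of the isometry group -/
def conjO (g : GL ι F) (hg : g ∈ Cfsg.Geo.quadSimilarityGroup (F := F) Q) :
    ↥(Cfsg.isometryGroup F Q) →* ↥(Cfsg.isometryGroup F Q) where
  toFun s := ⟨g * s * g⁻¹, conj_mem_iso g hg s s.2⟩
  map_one' := by
    apply Subtype.ext
    show g * ((1 : ↥(Cfsg.isometryGroup F Q)) : GL ι F) * g⁻¹ = 1
    rw [OneMemClass.coe_one, mul_one, mul_inv_cancel]
  map_mul' a b := by
    apply Subtype.ext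
    show g * ((a * b : ↥(Cfsg.isometryGroup F Q)) : GL ι F) * g⁻¹ =
      (g * (a : GL ι F) * g⁻¹) * (g * (b : GL ι F) * g⁻¹)
    rw [Subgroup.coe_mul]
    group

lemma conjO_val (g : GL ι F) (hg : g ∈ Cfsg.Geo.quadSimilarityGroup (F := F) Q)
    (s : ↥(Cfsg.isometryGroup F Q)) : ((conjO g hg s : ↥(Cfsg.isometryGroup F Q)) : GL ι F) =
      g * s * g⁻¹ := rfl

lemma conjO_mem_omega (g : GL ι F) (hg : g ∈ Cfsg.Geo.quadSimilarityGroup (F := F) Q)
    (s : ↥(Cfsg.isometryGroup F Q)) (hs : s ∈ Cfsg.Omega F Q) : conjO g hg s ∈ Cfsg.Omega F Q := by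
  unfold Cfsg.Omega at *
  rw [commutator_def] at *
  have := Subgroup.mem_map_of_mem (conjO g hg) hs
  rw [Subgroup.map_commutator] at this
  exact Subgroup.commutator_mono le_top le_top this

/-- conjugation by a similarity, as an automorphism of `Ω` -/
def conjΩ (g : GL ι F) (hg : g ∈ Cfsg.Geo.quadSimilarityGroup (F := F) Q) :
    ↥(Cfsg.Omega F Q) ≃* ↥(Cfsg.Omega F Q) where
  toFun s := ⟨conjO g hg s, conjO_mem_omega g hg s s.2⟩
  invFun s := ⟨conjO g⁻¹ (inv_mem hg) s, conjO_mem_omega g⁻¹ (inv_mem hg) s s.2⟩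
  left_inv s := by
    apply Subtype.ext
    apply Subtype.ext
    show g⁻¹ * (g * ((s : ↥(Cfsg.isometryGroup F Q)) : GL ι F) * g⁻¹) * g⁻¹⁻¹ = _
    group
  right_inv s := by
    apply Subtype.ext
    apply Subtype.ext
    show g * (g⁻¹ * ((s : ↥(Cfsg.isometryGroup F Q)) : GL ι F) * g⁻¹⁻¹) * g⁻¹ = _
    group
  map_mul' a b := by
    apply Subtype.ext
    show conjO g hg ((a * b : ↥(Cfsg.Omega F Q)) : ↥(Cfsg.isometryGroup F Q)) = _
    rw [Subgroup.coe_mul, map_mul]
    rfl

lemma conjΩ_val (g : GL ι F) (hg : g ∈ Cfsg.Geo.quadSimilarityGroup (F := F) Q)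
    (s : ↥(Cfsg.Omega F Q)) :
    (((conjΩ g hg s : ↥(Cfsg.Omega F Q)) : ↥(Cfsg.isometryGroup F Q)) : GL ι F) =
      g * ((s : ↥(Cfsg.isometryGroup F Q)) : GL ι F) * g⁻¹ := rfl

/-- conjugation by a similarity, as an automorphism of `PΩ` -/
noncomputable def conjT (g : GL ι F) (hg : g ∈ Cfsg.Geo.quadSimilarityGroup (F := F) Q) :
    MulAut (Cfsg.POmega F Q) :=
  QuotientGroup.congr (Subgroup.center ↥(Cfsg.Omega F Q)) (Subgroup.center ↥(Cfsg.Omega F Q))
    (conjΩ g hg)
    (Subgroup.characteristic_iff_map_eq.1 Subgroup.centerCharacteristic (conjΩ g hg))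

lemma conjT_mk (g : GL ι F) (hg : g ∈ Cfsg.Geo.quadSimilarityGroup (F := F) Q)
    (s : ↥(Cfsg.Omega F Q)) :
    conjT g hg (QuotientGroup.mk s) = QuotientGroup.mk (conjΩ g hg s) := rfl

/-- the conjugation homomorphism from the similarity group to `Aut(PΩ)` -/
noncomputable def conjHom (Q : (ι → F) → F) :
    ↥(Cfsg.Geo.quadSimilarityGroup (F := F) Q) →* MulAut (Cfsg.POmega F Q) where
  toFun g := conjT g.1 g.2
  map_one' := by
    apply MulEquiv.ext
    intro x
    induction x using QuotientGroup.induction_on with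
    | H s =>
      rw [conjT_mk, MulAut.one_apply]
      congr 1
      apply Subtype.ext
      apply Subtype.ext
      rw [conjΩ_val]
      simp
  map_mul' a b := by
    apply MulEquiv.ext
    intro x
    induction x using QuotientGroup.induction_on with
    | H s =>
      rw [MulAut.mul_apply, conjT_mk, conjT_mk, conjT_mk]
      congr 1
      apply Subtype.ext
      apply Subtype.ext
      rw [conjΩ_val, conjΩ_val, conjΩ_val]
      show ((a : GL ι F) * (b : GL ι F)) * _ * ((a : GL ι F) * (b : GL ι F))⁻¹ = _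
      group

lemma conjHom_apply (g : ↥(Cfsg.Geo.quadSimilarityGroup (F := F) Q)) :
    conjHom Q g = conjT g.1 g.2 := rfl

/-- an automorphism is induced by the similarity `g` iff it is conjugation by `g` -/
theorem induced_iff (g : GL ι F) (hg : g ∈ Cfsg.Geo.quadSimilarityGroup (F := F) Q)
    (β : Cfsg.POmega F Q ≃* Cfsg.POmega F Q) :
    Cfsg.IsInducedBySemilinearPOmega Q g (RingEquiv.refl F) β ↔ β = conjT g hg := by
  have hmap : ∀ M : Matrix ι ι F, M.map (RingEquiv.refl F) = M := by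
    intro M
    ext i j
    rfl
  constructor
  · intro h
    apply MulEquiv.ext
    intro x
    induction x using QuotientGroup.induction_on with
    | H s =>
      rw [conjT_mk]
      apply h s (conjΩ g hg s)
      rw [conjΩ_val, hmap, Units.val_mul, Units.val_mul]
  · rintro rfl s s' hs
    rw [conjT_mk]
    congr 1
    apply Subtype.ext
    apply Subtype.ext
    apply Units.ext
    rw [conjΩ_val, hs, hmap, Units.val_mul, Units.val_mul]

end Conj

end Cfsg.Agent.Lib.Helper5.OrthAut
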