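import Mathlib
import Cfsg.Agent.Lib.Helper5.OrthAut.Conj

set_option autoImplicit false
set_option linter.unusedSectionVars false
open Cfsg

/-!
The images of `Ω`, `SO`, `O`, `GO` in `Aut(PΩ)` as images of subgroups under the conjugation
homomorphism.
-/

namespace Cfsg.Agent.Lib.Helper5.OrthAut

open Matrix Cfsg.Agent.H9.Orth

section Images

variable {ι : Type} [Fintype ι] [DecidableEq ι] {F : Type*} [Field F] {Q : (ι → F) → F}

/-- the subgroup of `Aut(PΩ)` induced by a subgroup `R` of the similarity group -/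
theorem autSubgroupOf_eq (R : Subgroup (GL ι F))
    (hR : R ≤ Cfsg.Geo.quadSimilarityGroup (F := F) Q) :
    Cfsg.autSubgroupOf (fun β : Cfsg.POmega F Q ≃* Cfsg.POmega F Q => ∃ g : GL ι F, g ∈ R ∧
      Cfsg.IsInducedBySemilinearPOmega Q g (RingEquiv.refl F) β) =
      (R.subgroupOf (Cfsg.Geo.quadSimilarityGroup (F := F) Q)).map (conjHom Q) := by
  unfold Cfsg.autSubgroupOf
  have hset : {β : MulAut (Cfsg.POmega F Q) | ∃ g : GL ι F, g ∈ R ∧
      Cfsg.IsInducedBySemilinearPOmega Q g (RingEquiv.refl F) β} =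
      (((R.subgroupOf (Cfsg.Geo.quadSimilarityGroup (F := F) Q)).map (conjHom Q) :
        Subgroup (MulAut (Cfsg.POmega F Q))) : Set (MulAut (Cfsg.POmega F Q))) := by
    ext β
    simp only [Set.mem_setOf_eq, SetLike.mem_coe, Subgroup.mem_map]
    constructor
    · rintro ⟨g, hg, hβ⟩
      refine ⟨⟨g, hR hg⟩, Subgroup.mem_subgroupOf.2 hg, ?_⟩
      rw [conjHom_apply]
      exact ((induced_iff g (hR hg) β).1 hβ).symm
    · rintro ⟨x, hx, rfl⟩
      refine ⟨x.1, Subgroup.mem_subgroupOf.1 hx, ?_⟩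
      rw [conjHom_apply]
      exact (induced_iff x.1 x.2 _).2 rfl
  rw [hset, Subgroup.closure_eq]

theorem psoAut_eq : Cfsg.psoAut F Q =
    ((Cfsg.specialIsometryGL F Q).subgroupOf (Cfsg.Geo.quadSimilarityGroup (F := F) Q)).map
      (conjHom Q) :=
  autSubgroupOf_eq _ (inf_le_left.trans iso_le_GO)

theorem poAut_eq : Cfsg.poAut F Q =
    ((Cfsg.isometryGroup F Q).subgroupOf (Cfsg.Geo.quadSimilarityGroup (F := F) Q)).map
      (conjHom Q) :=
  autSubgroupOf_eq _ iso_le_GO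

theorem pgoAut_eq : Cfsg.pgoAut F Q = (conjHom Q).range := by
  have := autSubgroupOf_eq (Q := Q) (Cfsg.Geo.quadSimilarityGroup (F := F) Q) le_rfl
  rw [Subgroup.subgroupOf_self, ← MonoidHom.range_eq_map] at this
  exact this

lemma omegaGL_le_iso : Cfsg.Geo.omegaGL Q ≤ Cfsg.isometryGroup F Q := by
  rintro _ ⟨y, -, rfl⟩
  exact y.2

theorem inn_eq : Cfsg.Inn (Cfsg.POmega F Q) =
    ((Cfsg.Geo.omegaGL Q).subgroupOf (Cfsg.Geo.quadSimilarityGroup (F := F) Q)).map
      (conjHom Q) := by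
  have key : ∀ s : ↥(Cfsg.Omega F Q),
      conjHom Q ⟨((s : ↥(Cfsg.isometryGroup F Q)) : GL ι F),
        iso_le_GO (s : ↥(Cfsg.isometryGroup F Q)).2⟩ =
      MulAut.conj (QuotientGroup.mk s : Cfsg.POmega F Q) := by
    intro s
    apply MulEquiv.ext
    intro x
    induction x using QuotientGroup.induction_on with
    | H t =>
      rw [conjHom_apply, conjT_mk, MulAut.conj_apply, ← QuotientGroup.mk_inv,
        ← QuotientGroup.mk_mul, ← QuotientGroup.mk_mul]
      congr 1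
  ext β
  rw [Subgroup.mem_map]
  constructor
  · rintro ⟨t, rfl⟩
    induction t using QuotientGroup.induction_on with
    | H s =>
      refine ⟨⟨((s : ↥(Cfsg.isometryGroup F Q)) : GL ι F),
        iso_le_GO (s : ↥(Cfsg.isometryGroup F Q)).2⟩, ?_, key s⟩
      rw [Subgroup.mem_subgroupOf]
      exact ⟨(s : ↥(Cfsg.isometryGroup F Q)), s.2, rfl⟩
  · rintro ⟨x, hx, rfl⟩
    rw [Subgroup.mem_subgroupOf] at hx
    obtain ⟨y, hy, hyx⟩ := hx
    refine ⟨QuotientGroup.mk (⟨y, hy⟩ : ↥(Cfsg.Omega F Q)), ?_⟩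
    rw [← key ⟨y, hy⟩]
    congr 1
    apply Subtype.ext
    exact hyx

end Images

end Cfsg.Agent.Lib.Helper5.OrthAut
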