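import Mathlib
import Cfsg.Agent.Lib.Helper5.OrthAut.Images
import Cfsg.Agent.Lib.Helper5.Orth.OmegaCenter

set_option autoImplicit false
set_option linter.unusedSectionVars false
open Cfsg

/-!
The kernel of the conjugation homomorphism `GO → Aut(PΩ)` consists of the scalars
(dimension at least 7, odd characteristic).
-/

namespace Cfsg.Agent.Lib.Helper5.OrthAut

open Matrix Cfsg.Agent.H9.Orth Cfsg.Agent.Lib.Helper5.OrthSN

section Kernel

variable {ι : Type} [Fintype ι] [DecidableEq ι] {F : Type*} [Field F] [Fintype F]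
variable {Q : (ι → F) → F}
variable (hQ : Cfsg.Geo.IsNondegenerateQuadraticForm Q)
include hQ

omit [Fintype F] hQ in
/-- a scalar similarity acts trivially -/
lemma conjT_eq_one_of_scalar (g : GL ι F) (hg : g ∈ Cfsg.Geo.quadSimilarityGroup (F := F) Q)
    (l : F) (hl : ∀ x, act g x = l • x) : conjT g hg = 1 := by
  apply MulEquiv.ext
  intro x
  induction x using QuotientGroup.induction_on with
  | H s =>
    rw [conjT_mk, MulAut.one_apply]
    congr 1
    apply Subtype.ext
    apply Subtype.ext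
    rw [conjΩ_val]
    have hc : g * ((s : ↥(Cfsg.isometryGroup F Q)) : GL ι F) =
        ((s : ↥(Cfsg.isometryGroup F Q)) : GL ι F) * g := by
      apply gl_ext
      intro x
      rw [act_mul, act_mul, hl, hl, act_smul]
    rw [hc, mul_assoc, mul_inv_cancel, mul_one]

/-- a similarity acting trivially on `PΩ` commutes with every long root element -/
lemma comm_sg_of_conjT_eq_one (hn : 7 ≤ Fintype.card ι) (h2 : (2 : F) ≠ 0) (g : GL ι F)
    (hg : g ∈ Cfsg.Geo.quadSimilarityGroup (F := F) Q) (h1 : conjT g hg = 1)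
    (u w : ι → F) (hu : Q u = 0) (hw : Q w = 0) (huw : pol Q u w = 0) :
    g * sg hQ u w = sg hQ u w * g := by
  -- conjugation by `g` maps each element of `Ω` to `±` itself
  have hpm : ∀ s : ↥(Cfsg.Omega F Q),
      g * ((s : ↥(Cfsg.isometryGroup F Q)) : GL ι F) * g⁻¹ =
        ((s : ↥(Cfsg.isometryGroup F Q)) : GL ι F) ∨
      g * ((s : ↥(Cfsg.isometryGroup F Q)) : GL ι F) * g⁻¹ =
        -((s : ↥(Cfsg.isometryGroup F Q)) : GL ι F) := by
    intro s
    have h3 : conjT g hg (QuotientGroup.mk s) = QuotientGroup.mk s := by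
      rw [h1, MulAut.one_apply]
    rw [conjT_mk, QuotientGroup.eq] at h3
    have h4 := center_omega_val hQ hn _ h3
    rw [Subgroup.coe_mul, Subgroup.coe_mul, Subgroup.coe_inv, Subgroup.coe_inv, conjΩ_val] at h4
    rcases h4 with h4 | h4
    · left
      have := inv_mul_eq_one.1 h4
      exact this
    · right
      have h5 : ((s : ↥(Cfsg.isometryGroup F Q)) : GL ι F) =
          (g * ((s : ↥(Cfsg.isometryGroup F Q)) : GL ι F) * g⁻¹) * (-1) := by
        rw [← h4]; group
      rw [mul_neg, mul_one] at h5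
      have h6 := congrArg Neg.neg h5
      rw [neg_neg] at h6
      exact h6.symm
  -- the half root element
  have hw2 : Q ((2 : F)⁻¹ • w) = 0 := by rw [Q_smul hQ, hw, mul_zero]
  have huw2 : pol Q u ((2 : F)⁻¹ • w) = 0 := by rw [pol_smul_right hQ, huw, mul_zero]
  obtain ⟨y, hy, hyx⟩ := exists_omega_sg hQ hn u ((2 : F)⁻¹ • w) hu hw2 huw2
  have hsq : sg hQ u w = sg hQ u ((2 : F)⁻¹ • w) * sg hQ u ((2 : F)⁻¹ • w) := by
    rw [sg_mul hQ u _ _ huw2 huw2, ← add_smul]
    have : (2 : F)⁻¹ + (2 : F)⁻¹ = 1 := by field_simp; norm_num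
    rw [this, one_smul]
  have h6 := hpm ⟨y, hy⟩
  simp only [hyx] at h6
  have h7 : g * sg hQ u w * g⁻¹ = sg hQ u w := by
    have : g * sg hQ u w * g⁻¹ = (g * sg hQ u ((2 : F)⁻¹ • w) * g⁻¹) *
        (g * sg hQ u ((2 : F)⁻¹ • w) * g⁻¹) := by
      rw [hsq]; group
    rw [this]
    rcases h6 with h6 | h6
    · rw [h6, ← hsq]
    · rw [h6, neg_mul_neg, ← hsq]
  calc g * sg hQ u w = (g * sg hQ u w * g⁻¹) * g := by group
    _ = sg hQ u w * g := by rw [h7]

/-- a similarity acting trivially on `PΩ` is a scalar -/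
theorem scalar_of_conjT_eq_one (hn : 7 ≤ Fintype.card ι) (h2 : (2 : F) ≠ 0) (g : GL ι F)
    (hg : g ∈ Cfsg.Geo.quadSimilarityGroup (F := F) Q) (h1 : conjT g hg = 1) :
    ∃ l : F, ∀ x, act g x = l • x :=
  scalar_of_singular hQ hn g (fun v hv _ =>
    act_singular_of_comm hQ (by omega) g
      (fun u w hu hw huw => comm_sg_of_conjT_eq_one hQ hn h2 g hg h1 u w hu hw huw) v hv)

/-- an isometry acting trivially on `PΩ` is `±1` -/
theorem pm_one_of_conjT_eq_one (hn : 7 ≤ Fintype.card ι) (h2 : (2 : F) ≠ 0) (g : GL ι F)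
    (hg : g ∈ Cfsg.isometryGroup F Q) (h1 : conjT g (iso_le_GO hg) = 1) :
    g = 1 ∨ g = -1 :=
  act_eq_or_neg_of_comm hQ hn g hg
    (fun u w hu hw huw => comm_sg_of_conjT_eq_one hQ hn h2 g (iso_le_GO hg) h1 u w hu hw huw)

end Kernel

end Cfsg.Agent.Lib.Helper5.OrthAut
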