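import Mathlib
import Cfsg.Agent.Lib.Helper5.OrthAut.Kernel
import Cfsg.Agent.Lib.Helper5.Orth.Characters
import Cfsg.Agent.Lib.Helper5.Orth.ParityTwoMain

set_option autoImplicit false
set_option linter.unusedSectionVars false
open Cfsg

/-!
The multiplier of a similarity and the sign `det g / μ(g)^m`.
-/

namespace Cfsg.Agent.Lib.Helper5.OrthAut

open Matrix Cfsg.Agent.H9.Orth Cfsg.Agent.Lib.Helper5.OrthSN Cfsg.Agent.Lib.Helper5.OrthPar
open Cfsg.Agent.Lib.Helper5.OrthTv

section Mult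

variable {ι : Type} [Fintype ι] [DecidableEq ι] {F : Type*} [Field F]
variable {Q : (ι → F) → F}

/-- the multiplier of a similarity -/
noncomputable def mu (g : ↥(Cfsg.Geo.quadSimilarityGroup (F := F) Q)) : Fˣ := Classical.choose g.2

lemma mu_spec (g : ↥(Cfsg.Geo.quadSimilarityGroup (F := F) Q)) (v : ι → F) :
    Q (act (g : GL ι F) v) = (mu g : F) * Q v := Classical.choose_spec g.2 v

variable (hQ : Cfsg.Geo.IsNondegenerateQuadraticForm Q)
include hQ

lemma mu_unique [Nonempty ι] (g : ↥(Cfsg.Geo.quadSimilarityGroup (F := F) Q)) (c : F)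
    (hc : ∀ v, Q (act (g : GL ι F) v) = c * Q v) : (mu g : F) = c := by
  obtain ⟨x, hx⟩ := exists_nonsing hQ
  have := mu_spec g x
  rw [hc x] at this
  exact (mul_right_cancel₀ hx this).symm

lemma mu_mul [Nonempty ι] (g h : ↥(Cfsg.Geo.quadSimilarityGroup (F := F) Q)) :
    mu (g * h) = mu g * mu h := by
  apply Units.ext
  rw [Units.val_mul]
  apply mu_unique hQ
  intro v
  rw [Subgroup.coe_mul, act_mul, mu_spec g, mu_spec h, mul_assoc]

lemma mu_one [Nonempty ι] : mu (1 : ↥(Cfsg.Geo.quadSimilarityGroup (F := F) Q)) = 1 := by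
  apply Units.ext
  rw [Units.val_one]
  apply mu_unique hQ
  intro v
  rw [OneMemClass.coe_one, act_one, one_mul]

lemma mu_of_iso [Nonempty ι] (g : ↥(Cfsg.Geo.quadSimilarityGroup (F := F) Q))
    (hg : (g : GL ι F) ∈ Cfsg.isometryGroup F Q) : (mu g : F) = 1 := by
  apply mu_unique hQ
  intro v
  rw [one_mul]
  exact Q_act _ hg v

lemma mu_of_scalar [Nonempty ι] (g : ↥(Cfsg.Geo.quadSimilarityGroup (F := F) Q)) (l : F)
    (hl : ∀ x, act (g : GL ι F) x = l • x) : (mu g : F) = l ^ 2 := by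
  apply mu_unique hQ
  intro v
  rw [hl, Q_smul hQ]

omit hQ in
lemma pol_act_GO (g : ↥(Cfsg.Geo.quadSimilarityGroup (F := F) Q)) (x y : ι → F) :
    pol Q (act (g : GL ι F) x) (act (g : GL ι F) y) = (mu g : F) * pol Q x y := by
  unfold pol QuadraticMap.polar
  rw [← act_add, mu_spec g, mu_spec g, mu_spec g]
  ring

/-- the square of the determinant of a similarity -/
theorem det_sq (g : ↥(Cfsg.Geo.quadSimilarityGroup (F := F) Q)) :
    ((g : GL ι F) : Matrix ι ι F).det ^ 2 = (mu g : F) ^ Fintype.card ι := by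
  set M := LinearMap.BilinForm.toMatrix' (BF hQ) with hM
  have hdet : M.det ≠ 0 := by
    rw [← Matrix.nondegenerate_iff_det_ne_zero]
    exact (BF_nondegenerate hQ).toMatrix'
  have hcomp : (BF hQ).comp (Matrix.toLin' ((g : GL ι F) : Matrix ι ι F))
      (Matrix.toLin' ((g : GL ι F) : Matrix ι ι F)) = (mu g : F) • BF hQ := by
    apply LinearMap.ext₂
    intro x y
    rw [LinearMap.BilinForm.comp_apply]
    simp only [Matrix.toLin'_apply, BF_apply, LinearMap.smul_apply, smul_eq_mul]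
    exact pol_act_GO g x y
  have h1 := congrArg LinearMap.BilinForm.toMatrix' hcomp
  rw [LinearMap.BilinForm.toMatrix'_comp, LinearMap.toMatrix'_toLin', map_smul] at h1
  have h2 := congrArg Matrix.det h1
  rw [Matrix.det_mul, Matrix.det_mul, Matrix.det_transpose, Matrix.det_smul] at h2
  have h3 : (((g : GL ι F) : Matrix ι ι F).det ^ 2 - (mu g : F) ^ Fintype.card ι) * M.det = 0 := by
    rw [← hM] at h2
    linear_combination h2
  rcases mul_eq_zero.1 h3 with h | h
  · exact sub_eq_zero.1 h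
  · exact absurd h hdet

/-- in dimension `2m`, `det g = ± μ(g)^m` -/
theorem det_eq_or (m : ℕ) (hm : Fintype.card ι = 2 * m)
    (g : ↥(Cfsg.Geo.quadSimilarityGroup (F := F) Q)) :
    ((g : GL ι F) : Matrix ι ι F).det = (mu g : F) ^ m ∨
      ((g : GL ι F) : Matrix ι ι F).det = -(mu g : F) ^ m := by
  have h := det_sq hQ g
  rw [hm, mul_comm, pow_mul] at h
  exact sq_eq_sq_iff_eq_or_eq_neg.1 h

end Mult

end Cfsg.Agent.Lib.Helper5.OrthAut
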