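import Mathlib
import Cfsg.Agent.Lib.Helper5.OrthAut.Kernel
import Cfsg.Agent.Lib.Helper5.Orth.OmegaOrder
import Cfsg.Agent.Lib.Helper5.Orth.Characters
import Cfsg.Agent.Lib.Helper5.Orth.PlusFamily
import Cfsg.Agent.Lib.Helper5.Orth.SOIndexTwo
import Cfsg.Agent.Lib.Helper5.Orth.SpinorNeg

set_option autoImplicit false
set_option linter.unusedSectionVars false
open Cfsg

/-!
The index of `Inn(PΩ)` in the image of `SO` in `Aut(PΩ)`.
-/

namespace Cfsg.Agent.Lib.Helper5.OrthAut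

open Matrix Cfsg.Agent.H9.Orth Cfsg.Agent.Lib.Helper5.OrthSN Cfsg.Agent.Lib.Helper5.OrthPar
open Cfsg.Agent.Lib.Helper5.OrthTv

section Gen

variable {G : Type*} [Group G]

lemma map_subtype_subgroupOf {H K : Subgroup G} (h : H ≤ K) (R : Subgroup ↥H) :
    (R.map H.subtype).subgroupOf K = R.map (Subgroup.inclusion h) := by
  ext x
  rw [Subgroup.mem_subgroupOf, Subgroup.mem_map, Subgroup.mem_map]
  constructor
  · rintro ⟨y, hy, hyx⟩
    exact ⟨y, hy, Subtype.ext hyx⟩
  · rintro ⟨y, hy, rfl⟩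
    exact ⟨y, hy, rfl⟩

end Gen

section PSO

variable {ι : Type} [Fintype ι] [DecidableEq ι] {F : Type*} [Field F] [Fintype F]
variable {Q : (ι → F) → F}
variable (hQ : Cfsg.Geo.IsNondegenerateQuadraticForm Q)

omit [Fintype F] in
lemma specialIsometryGL_eq_map :
    Cfsg.specialIsometryGL F Q =
      (Cfsg.specialIsometryGroup F Q).map (Cfsg.isometryGroup F Q).subtype := by
  ext g
  rw [Subgroup.mem_map]
  unfold Cfsg.specialIsometryGL
  rw [Subgroup.mem_inf]
  constructor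
  · rintro ⟨h1, h2⟩
    refine ⟨⟨g, h1⟩, ?_, rfl⟩
    rw [mem_SO_iff]
    have : Matrix.GeneralLinearGroup.det g = 1 := h2
    have := congrArg Units.val this
    exact this
  · rintro ⟨y, hy, rfl⟩
    refine ⟨y.2, ?_⟩
    rw [mem_SO_iff] at hy
    show Matrix.GeneralLinearGroup.det (y : GL ι F) = 1
    apply Units.ext
    exact hy

include hQ

/-- `SO` has index two in `O` (odd characteristic) -/
lemma SO_index (h2 : (2 : F) ≠ 0) (hn : 1 ≤ Fintype.card ι)
    (hgen : Cfsg.isometryGroup F Q ≤ RR hQ) :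
    (Cfsg.specialIsometryGroup F Q).index = 2 := by
  have : Nonempty ι := by
    rw [← Fintype.card_pos_iff]; omega
  obtain ⟨x, hx⟩ := exists_nonsing hQ
  have hker : (parHom hQ hgen).ker = Cfsg.specialIsometryGroup F Q := by
    ext g
    rw [MonoidHom.mem_ker, parHom_eq_one_iff, mem_SO_iff, par_iff_det hQ h2 hgen _ g.2]
  rw [← hker]
  exact index_ker_of_neg_one _ (R hQ x) (parHom_R hQ hgen x hx)

lemma omega_le_SO (h2 : (2 : F) ≠ 0) (hgen : Cfsg.isometryGroup F Q ≤ RR hQ) :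
    Cfsg.Omega F Q ≤ Cfsg.specialIsometryGroup F Q := by
  intro g hg
  rw [mem_SO_iff, ← par_iff_det hQ h2 hgen _ g.2]
  exact ((mem_omega_iff hQ h2 hgen g).1 hg).1

/-- `Ω` has index two in `SO` -/
lemma omega_relIndex_SO (h2 : (2 : F) ≠ 0) (hn : 2 ≤ Fintype.card ι)
    (hgen : Cfsg.isometryGroup F Q ≤ RR hQ) :
    (Cfsg.Omega F Q).relIndex (Cfsg.specialIsometryGroup F Q) = 2 := by
  have h1 := Subgroup.relIndex_mul_index (omega_le_SO hQ h2 hgen)
  rw [SO_index hQ h2 (by omega) hgen, omega_index_four hQ h2 hn hgen] at h1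
  omega

/-- the index of `Inn(PΩ)` in the image of `SO`, as a relative index inside `GO` -/
lemma relIndex_inn_pso_eq :
    (Cfsg.Inn (Cfsg.POmega F Q)).relIndex (Cfsg.psoAut F Q) =
      (((Cfsg.Geo.omegaGL Q).subgroupOf (Cfsg.Geo.quadSimilarityGroup (F := F) Q)) ⊔
        (conjHom Q).ker).relIndex
        ((Cfsg.specialIsometryGL F Q).subgroupOf (Cfsg.Geo.quadSimilarityGroup (F := F) Q)) := by
  rw [inn_eq, psoAut_eq, ← Subgroup.relIndex_comap, Subgroup.comap_map_eq]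

/-- if `-1 ∈ Ω` then `Inn(PΩ)` has index two in the image of `SO` -/
theorem relIndex_inn_pso_of_neg_mem (hn : 7 ≤ Fintype.card ι) (h2 : (2 : F) ≠ 0)
    (hgen : Cfsg.isometryGroup F Q ≤ RR hQ)
    (g₀ : ↥(Cfsg.isometryGroup F Q)) (hg₀ : g₀ ∈ Cfsg.Omega F Q)
    (hval : ((g₀ : GL ι F) : Matrix ι ι F) = -1) :
    (Cfsg.Inn (Cfsg.POmega F Q)).relIndex (Cfsg.psoAut F Q) = 2 := by
  have hg₀' : (g₀ : GL ι F) = -1 := by
    apply Units.ext
    rw [hval, Units.val_neg, Units.val_one]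
  rw [relIndex_inn_pso_eq hQ, ← Subgroup.inf_relIndex_right]
  set Ω' := (Cfsg.Geo.omegaGL Q).subgroupOf (Cfsg.Geo.quadSimilarityGroup (F := F) Q) with hΩ'
  set SO' := (Cfsg.specialIsometryGL F Q).subgroupOf
    (Cfsg.Geo.quadSimilarityGroup (F := F) Q) with hSO'
  have hle : Ω' ≤ SO' := by
    intro x hx
    rw [hΩ', Subgroup.mem_subgroupOf] at hx
    rw [hSO', Subgroup.mem_subgroupOf, specialIsometryGL_eq_map]
    obtain ⟨y, hy, hyx⟩ := hx
    exact ⟨y, omega_le_SO hQ h2 hgen hy, hyx⟩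
  have heq : (Ω' ⊔ (conjHom Q).ker) ⊓ SO' = Ω' := by
    apply le_antisymm
    · rintro x ⟨hx1, hx2⟩
      have hx1' : x ∈ Ω' ⊔ (conjHom Q).ker := hx1
      have hx2' : x ∈ SO' := hx2
      clear hx1 hx2
      rw [Subgroup.mem_sup_of_normal_right] at hx1'
      obtain ⟨ω, hω, k, hk, rfl⟩ := hx1'
      have hkO : (k : GL ι F) ∈ Cfsg.isometryGroup F Q := by
        have h3 : ((ω * k : ↥(Cfsg.Geo.quadSimilarityGroup (F := F) Q)) : GL ι F) ∈
            Cfsg.isometryGroup F Q := by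
          rw [hSO', Subgroup.mem_subgroupOf] at hx2'
          exact hx2'.1
        have h4 : (ω : GL ι F) ∈ Cfsg.isometryGroup F Q := by
          rw [hΩ', Subgroup.mem_subgroupOf] at hω
          exact omegaGL_le_iso hω
        have : (k : GL ι F) = (ω : GL ι F)⁻¹ * ((ω * k :
            ↥(Cfsg.Geo.quadSimilarityGroup (F := F) Q)) : GL ι F) := by
          rw [Subgroup.coe_mul]; group
        rw [this]
        exact mul_mem (inv_mem h4) h3
      rw [MonoidHom.mem_ker, conjHom_apply] at hk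
      have hk' : k ∈ Ω' := by
        rw [hΩ', Subgroup.mem_subgroupOf]
        rcases pm_one_of_conjT_eq_one hQ hn h2 (k : GL ι F) hkO hk with h5 | h5
        · rw [h5]; exact one_mem _
        · rw [h5]
          exact ⟨g₀, hg₀, hg₀'⟩
      exact mul_mem hω hk'
    · exact le_inf le_sup_left hle
  rw [heq]
  -- transfer to the isometry group
  have e1 : Ω' = (Cfsg.Omega F Q).map (Subgroup.inclusion (iso_le_GO (Q := Q))) := by
    rw [hΩ']
    exact map_subtype_subgroupOf iso_le_GO (Cfsg.Omega F Q)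
  have e2 : SO' = (Cfsg.specialIsometryGroup F Q).map
      (Subgroup.inclusion (iso_le_GO (Q := Q))) := by
    rw [hSO', specialIsometryGL_eq_map]
    exact map_subtype_subgroupOf iso_le_GO (Cfsg.specialIsometryGroup F Q)
  rw [e1, e2, Subgroup.relIndex_map_map_of_injective _ _
    (Subgroup.inclusion_injective iso_le_GO)]
  exact omega_relIndex_SO hQ h2 (by omega) hgen

omit hQ [Fintype F] in
lemma par_neg_one (h2 : (2 : F) ≠ 0) (hev : Even (Fintype.card ι)) : par (-1 : GL ι F) := by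
  have hne : (-1 : F) ≠ 1 := by
    intro h
    apply h2
    linear_combination -h
  have hg' : (((-1 : GL ι F) : GL ι F) : Matrix ι ι F) = Matrix.diagonal (fun _ => (-1 : F)) := by
    rw [Units.val_neg, Units.val_one]
    ext x y
    by_cases h : x = y
    · subst h; simp
    · simp [h]
  have hrank := rank_diag_sub_one (-1 : GL ι F) (fun _ => (-1 : F)) hg'
  have hc : Nat.card {_k : ι // (-1 : F) ≠ 1} = Fintype.card ι := by
    rw [Nat.card_congr (Equiv.subtypeUnivEquiv (fun _ => hne)), Nat.card_eq_fintype_card]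
  rw [hc] at hrank
  unfold par
  rw [hrank]
  exact hev

omit [Fintype F] hQ in
lemma act_neg_one (x : ι → F) : act (-1 : GL ι F) x = (-1 : F) • x := by
  show ((-1 : GL ι F) : Matrix ι ι F) *ᵥ x = _
  rw [Units.val_neg, Units.val_one, Matrix.neg_mulVec, Matrix.one_mulVec, neg_one_smul]

/-- if `-1 ∉ Ω` (even dimension) then the image of `SO` is `Inn(PΩ)` -/
theorem relIndex_inn_pso_of_not (hn : 7 ≤ Fintype.card ι) (h2 : (2 : F) ≠ 0)
    (hgen : Cfsg.isometryGroup F Q ≤ RR hQ) (hev : Even (Fintype.card ι))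
    (hno : ¬ ∃ g : ↥(Cfsg.isometryGroup F Q), g ∈ Cfsg.Omega F Q ∧
      ((g : GL ι F) : Matrix ι ι F) = -1) :
    (Cfsg.Inn (Cfsg.POmega F Q)).relIndex (Cfsg.psoAut F Q) = 1 := by
  rw [relIndex_inn_pso_eq hQ, Subgroup.relIndex_eq_one]
  intro x hx
  rw [Subgroup.mem_subgroupOf, specialIsometryGL_eq_map] at hx
  obtain ⟨y, hy, hyx⟩ := hx
  have hpar : par (y : GL ι F) := by
    rw [par_iff_det hQ h2 hgen _ y.2, ← mem_SO_iff]
    exact hy
  have hnO : (-1 : GL ι F) ∈ Cfsg.isometryGroup F Q := neg_one_mem_iso hQ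
  have hnspin : ¬ spin Q (-1 : GL ι F) := by
    intro hs
    apply hno
    refine ⟨⟨-1, hnO⟩, ?_, ?_⟩
    · rw [mem_omega_iff hQ h2 hgen]
      exact ⟨par_neg_one h2 hev, hs⟩
    · show ((-1 : GL ι F) : Matrix ι ι F) = -1
      rw [Units.val_neg, Units.val_one]
  have hnker : (⟨-1, iso_le_GO hnO⟩ : ↥(Cfsg.Geo.quadSimilarityGroup (F := F) Q)) ∈
      (conjHom Q).ker := by
    rw [MonoidHom.mem_ker, conjHom_apply]
    exact conjT_eq_one_of_scalar _ _ (-1) act_neg_one
  by_cases hs : spin Q (y : GL ι F)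
  · apply Subgroup.mem_sup_left
    rw [Subgroup.mem_subgroupOf]
    exact ⟨y, (mem_omega_iff hQ h2 hgen y).2 ⟨hpar, hs⟩, hyx⟩
  · have hmem : y * ⟨-1, hnO⟩ ∈ Cfsg.Omega F Q := by
      rw [mem_omega_iff hQ h2 hgen]
      constructor
      · show par ((y : GL ι F) * (-1))
        rw [par_mul_gen hQ hgen _ _ y.2 hnO]
        have := par_neg_one (F := F) (ι := ι) h2 hev
        tauto
      · show spin Q ((y : GL ι F) * (-1))
        rw [spin_mul_iff hQ hgen _ _ y.2 hnO]
        tauto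
    have hx' : x = (⟨(y : GL ι F) * (-1), iso_le_GO (mul_mem y.2 hnO)⟩ :
        ↥(Cfsg.Geo.quadSimilarityGroup (F := F) Q)) * ⟨-1, iso_le_GO hnO⟩ := by
      apply Subtype.ext
      show (x : GL ι F) = (y : GL ι F) * (-1) * (-1)
      rw [mul_assoc, neg_mul_neg, mul_one, mul_one]
      exact hyx.symm
    rw [hx']
    apply Subgroup.mul_mem_sup _ hnker
    rw [Subgroup.mem_subgroupOf]
    exact ⟨y * ⟨-1, hnO⟩, hmem, rfl⟩

end PSO

end Cfsg.Agent.Lib.Helper5.OrthAut
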