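import Mathlib
import Cfsg.Agent.Lib.Helper5.OrthAut.Mult
import Cfsg.Agent.Lib.Helper5.OrthAut.Lift
import Cfsg.Agent.Lib.Helper5.OrthAut.PSOIndex

set_option autoImplicit false
set_option linter.unusedSectionVars false
open Cfsg

/-!
The image of `GO` in `Aut(PΩ)` modulo the image of `SO` is a Klein four-group
(even dimension at least 8, odd characteristic).
-/

namespace Cfsg.Agent.Lib.Helper5.OrthAut

open Matrix Cfsg.Agent.H9.Orth Cfsg.Agent.Lib.Helper5.OrthSN Cfsg.Agent.Lib.Helper5.OrthPar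
open Cfsg.Agent.Lib.Helper5.OrthTv

lemma sign_mul_iff {F : Type*} [Field F] {da db ma mb : F} (h2 : (2 : F) ≠ 0) (hma : ma ≠ 0)
    (hmb : mb ≠ 0) (ha : da = ma ∨ da = -ma) (hb : db = mb ∨ db = -mb) :
    da * db = ma * mb ↔ (da = ma ↔ db = mb) := by
  have hneg : ∀ x : F, x ≠ 0 → -x ≠ x := by
    intro x hx h
    have : (2 : F) * x = 0 := by linear_combination -h
    rcases mul_eq_zero.1 this with h' | h'
    · exact h2 h'
    · exact hx h'
  rcases ha with ha | ha <;> rcases hb with hb | hb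
  · rw [ha, hb]; simp
  · rw [ha, hb]
    constructor
    · intro h
      exfalso
      apply hneg (ma * mb) (mul_ne_zero hma hmb)
      linear_combination h
    · intro h
      exfalso
      exact hneg mb hmb (h.1 rfl)
  · rw [ha, hb]
    constructor
    · intro h
      exfalso
      apply hneg (ma * mb) (mul_ne_zero hma hmb)
      linear_combination h
    · intro h
      exfalso
      exact hneg ma hma (h.2 rfl)
  · rw [ha, hb]
    constructor
    · intro _
      constructor
      · intro h; exact absurd h (hneg ma hma)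
      · intro h; exact absurd h (hneg mb hmb)
    · intro _
      ring

section Scalar

variable {ι : Type} [Fintype ι] [DecidableEq ι] {F : Type*} [Field F]

/-- a nonzero scalar matrix as an element of `GL` -/
def scalarGL (l : F) (hl : l ≠ 0) : GL ι F :=
  ⟨l • (1 : Matrix ι ι F), l⁻¹ • (1 : Matrix ι ι F), by
    rw [smul_mul_smul_comm, mul_one, mul_inv_cancel₀ hl, one_smul], by
    rw [smul_mul_smul_comm, mul_one, inv_mul_cancel₀ hl, one_smul]⟩

lemma act_scalarGL (l : F) (hl : l ≠ 0) (x : ι → F) : act (scalarGL l hl : GL ι F) x = l • x := by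
  show (l • (1 : Matrix ι ι F)) *ᵥ x = l • x
  rw [Matrix.smul_mulVec, Matrix.one_mulVec]

lemma det_scalarGL (l : F) (hl : l ≠ 0) :
    ((scalarGL l hl : GL ι F) : Matrix ι ι F).det = l ^ Fintype.card ι := by
  show (l • (1 : Matrix ι ι F)).det = _
  rw [Matrix.det_smul, Matrix.det_one, mul_one]

end Scalar

section PGO

variable {ι : Type} [Fintype ι] [DecidableEq ι] {F : Type*} [Field F] [Fintype F]
variable {Q : (ι → F) → F}
variable (hQ : Cfsg.Geo.IsNondegenerateQuadraticForm Q)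
include hQ

omit [Fintype F] in
lemma scalarGL_mem_GO (l : F) (hl : l ≠ 0) :
    (scalarGL l hl : GL ι F) ∈ Cfsg.Geo.quadSimilarityGroup (F := F) Q := by
  refine ⟨Units.mk0 (l ^ 2) (pow_ne_zero 2 hl), fun v => ?_⟩
  have : ((scalarGL l hl : GL ι F) : Matrix ι ι F) *ᵥ v = l • v := act_scalarGL l hl v
  rw [this, Q_smul hQ]
  rfl

/-- the multiplier-class character -/
noncomputable def chiMu [Nonempty ι] : ↥(Cfsg.Geo.quadSimilarityGroup (F := F) Q) →* ℤˣ :=
  propHom (fun g => IsSquare (mu g : F))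
    (by rw [mu_one hQ]; exact ⟨1, by simp⟩)
    (fun a b => by
      rw [mu_mul hQ, Units.val_mul]
      exact isSquare_mul_iff (Units.ne_zero _) (Units.ne_zero _))

/-- the sign character `det g / μ(g)^m` -/
noncomputable def chiDet [Nonempty ι] (h2 : (2 : F) ≠ 0) (m : ℕ) (hm : Fintype.card ι = 2 * m) :
    ↥(Cfsg.Geo.quadSimilarityGroup (F := F) Q) →* ℤˣ :=
  propHom (fun g => ((g : GL ι F) : Matrix ι ι F).det = (mu g : F) ^ m)
    (by rw [mu_one hQ]; simp)
    (fun a b => by
      rw [mu_mul hQ, Units.val_mul, Subgroup.coe_mul, Units.val_mul, Matrix.det_mul, mul_pow]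
      exact sign_mul_iff h2 (pow_ne_zero _ (Units.ne_zero _)) (pow_ne_zero _ (Units.ne_zero _))
        (det_eq_or hQ m hm a) (det_eq_or hQ m hm b))

lemma chiMu_eq_one_iff [Nonempty ι] (g : ↥(Cfsg.Geo.quadSimilarityGroup (F := F) Q)) :
    chiMu hQ g = 1 ↔ IsSquare (mu g : F) := propHom_eq_one_iff _ _ _ g

lemma chiDet_eq_one_iff [Nonempty ι] (h2 : (2 : F) ≠ 0) (m : ℕ) (hm : Fintype.card ι = 2 * m)
    (g : ↥(Cfsg.Geo.quadSimilarityGroup (F := F) Q)) :
    chiDet hQ h2 m hm g = 1 ↔ ((g : GL ι F) : Matrix ι ι F).det = (mu g : F) ^ m :=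
  propHom_eq_one_iff _ _ _ g

/-- the homomorphism from `GO` to the Klein four-group -/
noncomputable def phi0 [Nonempty ι] (h2 : (2 : F) ≠ 0) (m : ℕ) (hm : Fintype.card ι = 2 * m) :
    ↥(Cfsg.Geo.quadSimilarityGroup (F := F) Q) →* Multiplicative (ZMod 2 × ZMod 2) :=
  z22.comp ((chiMu hQ).prod (chiDet hQ h2 m hm))

lemma phi0_eq_one_iff [Nonempty ι] (h2 : (2 : F) ≠ 0) (m : ℕ) (hm : Fintype.card ι = 2 * m)
    (g : ↥(Cfsg.Geo.quadSimilarityGroup (F := F) Q)) :
    phi0 hQ h2 m hm g = 1 ↔ IsSquare (mu g : F) ∧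
      ((g : GL ι F) : Matrix ι ι F).det = (mu g : F) ^ m := by
  unfold phi0
  rw [MonoidHom.comp_apply, z22_eq_one_iff, MonoidHom.prod_apply]
  simp only
  rw [chiMu_eq_one_iff, chiDet_eq_one_iff]

/-- the kernel of `phi0` is generated by `SO` and the scalars -/
theorem phi0_ker [Nonempty ι] (hn : 7 ≤ Fintype.card ι) (h2 : (2 : F) ≠ 0) (m : ℕ)
    (hm : Fintype.card ι = 2 * m) :
    (phi0 hQ h2 m hm).ker =
      ((Cfsg.specialIsometryGL F Q).subgroupOf (Cfsg.Geo.quadSimilarityGroup (F := F) Q)) ⊔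
        (conjHom Q).ker := by
  apply le_antisymm
  · intro g hg
    rw [MonoidHom.mem_ker, phi0_eq_one_iff] at hg
    obtain ⟨⟨l, hl⟩, hdet⟩ := hg
    have hl0 : l ≠ 0 := by
      rintro rfl
      rw [mul_zero] at hl
      exact Units.ne_zero _ hl
    set k : ↥(Cfsg.Geo.quadSimilarityGroup (F := F) Q) :=
      ⟨scalarGL l hl0, scalarGL_mem_GO hQ l hl0⟩ with hk
    have hkker : k ∈ (conjHom Q).ker := by
      rw [MonoidHom.mem_ker, conjHom_apply]
      exact conjT_eq_one_of_scalar _ _ l (act_scalarGL l hl0)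
    have hmuk : (mu k : F) = l ^ 2 := mu_of_scalar hQ k l (act_scalarGL l hl0)
    have hmuh : (mu (k⁻¹ * g) : F) = 1 := by
      have h1 : mu (k * (k⁻¹ * g)) = mu k * mu (k⁻¹ * g) := mu_mul hQ _ _
      rw [mul_inv_cancel_left] at h1
      have h3 := congrArg Units.val h1
      rw [Units.val_mul, hmuk, hl] at h3
      have : l * l ≠ 0 := mul_ne_zero hl0 hl0
      field_simp at h3
      exact h3.symm
    have hh : (k⁻¹ * g) ∈ (Cfsg.specialIsometryGL F Q).subgroupOf
        (Cfsg.Geo.quadSimilarityGroup (F := F) Q) := by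
      rw [Subgroup.mem_subgroupOf]
      unfold Cfsg.specialIsometryGL
      rw [Subgroup.mem_inf]
      constructor
      · rw [mem_isometryGroup_iff]
        intro x
        rw [mu_spec (k⁻¹ * g), hmuh, one_mul]
      · show Matrix.GeneralLinearGroup.det (((k⁻¹ * g :
          ↥(Cfsg.Geo.quadSimilarityGroup (F := F) Q)) : GL ι F)) = 1
        apply Units.ext
        show (((k⁻¹ * g : ↥(Cfsg.Geo.quadSimilarityGroup (F := F) Q)) : GL ι F) :
          Matrix ι ι F).det = 1
        have h5 : ((g : GL ι F) : Matrix ι ι F).det =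
            ((k : GL ι F) : Matrix ι ι F).det * (((k⁻¹ * g :
              ↥(Cfsg.Geo.quadSimilarityGroup (F := F) Q)) : GL ι F) : Matrix ι ι F).det := by
          rw [← Matrix.det_mul, ← Units.val_mul, ← Subgroup.coe_mul, mul_inv_cancel_left]
        have h6 : ((k : GL ι F) : Matrix ι ι F).det = l ^ Fintype.card ι := det_scalarGL l hl0
        rw [h6, hdet, hl, hm, pow_mul, ← pow_two] at h5
        have h7 : (l ^ 2) ^ m ≠ 0 := pow_ne_zero _ (pow_ne_zero _ hl0)
        have h8 : (l ^ 2) ^ m * 1 = (l ^ 2) ^ m * (((k⁻¹ * g :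
            ↥(Cfsg.Geo.quadSimilarityGroup (F := F) Q)) : GL ι F) : Matrix ι ι F).det := by
          rw [mul_one]; exact h5
        exact (mul_left_cancel₀ h7 h8).symm
    have : g = k * (k⁻¹ * g) := by group
    rw [this]
    exact mul_mem (Subgroup.mem_sup_right hkker) (Subgroup.mem_sup_left hh)
  · rw [sup_le_iff]
    constructor
    · intro g hg
      rw [Subgroup.mem_subgroupOf] at hg
      unfold Cfsg.specialIsometryGL at hg
      rw [Subgroup.mem_inf] at hg
      rw [MonoidHom.mem_ker, phi0_eq_one_iff]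
      have h1 := mu_of_iso hQ g hg.1
      rw [h1]
      refine ⟨⟨1, by simp⟩, ?_⟩
      rw [one_pow]
      have : Matrix.GeneralLinearGroup.det (g : GL ι F) = 1 := hg.2
      exact congrArg Units.val this
    · intro g hg
      rw [MonoidHom.mem_ker, conjHom_apply] at hg
      obtain ⟨l, hl⟩ := scalar_of_conjT_eq_one hQ hn h2 _ g.2 hg
      rw [MonoidHom.mem_ker, phi0_eq_one_iff]
      have h1 := mu_of_scalar hQ g l hl
      have hl0 : l ≠ 0 := by
        rintro rfl
        obtain ⟨x, hx⟩ := exists_nonsing hQ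
        have h3 := hl x
        rw [zero_smul, act_eq_zero_iff] at h3
        rw [h3, Q_zero hQ] at hx
        exact hx rfl
      have hgs : (g : GL ι F) = scalarGL l hl0 := by
        apply gl_ext
        intro x
        rw [hl, act_scalarGL]
      rw [h1]
      refine ⟨⟨l, by ring⟩, ?_⟩
      rw [hgs, det_scalarGL, hm, pow_mul]

/-- `phi0` is surjective as soon as some similarity has a nonsquare multiplier -/
theorem phi0_surjective [Nonempty ι] (h2 : (2 : F) ≠ 0) (m : ℕ)
    (hm : Fintype.card ι = 2 * m) (d : GL ι F) (c : F) (hc : ¬ IsSquare c)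
    (hd : ∀ v, Q (act d v) = c * Q v) :
    Function.Surjective (phi0 hQ h2 m hm) := by
  have hc0 : c ≠ 0 := by
    rintro rfl
    exact hc ⟨0, by simp⟩
  have hdG : d ∈ Cfsg.Geo.quadSimilarityGroup (F := F) Q := ⟨Units.mk0 c hc0, hd⟩
  obtain ⟨x, hx⟩ := exists_nonsing hQ
  set r : ↥(Cfsg.Geo.quadSimilarityGroup (F := F) Q) := ⟨rf hQ x, iso_le_GO (rf_mem hQ x)⟩ with hr
  have hmur : (mu r : F) = 1 := mu_of_iso hQ r (rf_mem hQ x)
  have h1 : chiMu hQ r = 1 := by
    rw [chiMu_eq_one_iff, hmur]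
    exact ⟨1, by simp⟩
  have h2' : chiDet hQ h2 m hm r = -1 := by
    rcases Int.units_eq_one_or (chiDet hQ h2 m hm r) with h | h
    · exfalso
      rw [chiDet_eq_one_iff, hmur, one_pow] at h
      have h3 : ((r : GL ι F) : Matrix ι ι F).det = -1 := det_rf hQ x hx
      rw [h3] at h
      apply h2
      linear_combination -h
    · exact h
  have hmud : (mu (⟨d, hdG⟩ : ↥(Cfsg.Geo.quadSimilarityGroup (F := F) Q)) : F) = c :=
    mu_unique hQ _ c hd
  have h3 : chiMu hQ ⟨d, hdG⟩ = -1 := by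
    rcases Int.units_eq_one_or (chiMu hQ ⟨d, hdG⟩) with h | h
    · exfalso
      rw [chiMu_eq_one_iff, hmud] at h
      exact hc h
    · exact h
  have key : Function.Surjective ((chiMu hQ).prod (chiDet hQ h2 m hm)) := by
    rintro ⟨u, v⟩
    rcases Int.units_eq_one_or (chiDet hQ h2 m hm ⟨d, hdG⟩) with h4 | h4 <;>
      rcases Int.units_eq_one_or u with rfl | rfl <;>
      rcases Int.units_eq_one_or v with rfl | rfl
    · exact ⟨1, by simp⟩
    · exact ⟨r, by rw [MonoidHom.prod_apply, h1, h2']⟩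
    · exact ⟨⟨d, hdG⟩, by rw [MonoidHom.prod_apply, h3, h4]⟩
    · exact ⟨⟨d, hdG⟩ * r, by rw [MonoidHom.prod_apply, map_mul, map_mul, h1, h2', h3, h4]; rfl⟩
    · exact ⟨1, by simp⟩
    · exact ⟨r, by rw [MonoidHom.prod_apply, h1, h2']⟩
    · exact ⟨⟨d, hdG⟩ * r, by rw [MonoidHom.prod_apply, map_mul, map_mul, h1, h2', h3, h4]; rfl⟩
    · exact ⟨⟨d, hdG⟩, by rw [MonoidHom.prod_apply, h3, h4]⟩
  intro y
  obtain ⟨p, rfl⟩ := z22_surjective y
  obtain ⟨g, rfl⟩ := key p
  exact ⟨g, rfl⟩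

/-- the image of `GO` modulo the image of `SO` is a Klein four-group -/
theorem pgo_mod_pso (hn : 7 ≤ Fintype.card ι) (h2 : (2 : F) ≠ 0) (m : ℕ)
    (hm : Fintype.card ι = 2 * m) (d : GL ι F) (c : F) (hc : ¬ IsSquare c)
    (hd : ∀ v, Q (act d v) = c * Q v) :
    ∃ φ : ↥(Cfsg.pgoAut F Q) →* Multiplicative (ZMod 2 × ZMod 2), Function.Surjective φ ∧
      φ.ker = (Cfsg.psoAut F Q).subgroupOf (Cfsg.pgoAut F Q) := by
  have : Nonempty ι := by
    rw [← Fintype.card_pos_iff]; omega
  have key : ∀ P : Subgroup (MulAut (Cfsg.POmega F Q)), P = (conjHom Q).range →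
      ∃ φ : ↥P →* Multiplicative (ZMod 2 × ZMod 2), Function.Surjective φ ∧
        φ.ker = (Cfsg.psoAut F Q).subgroupOf P := by
    rintro P rfl
    rw [psoAut_eq]
    exact exists_hom_range (conjHom Q) (phi0 hQ h2 m hm)
      (phi0_surjective hQ h2 m hm d c hc hd) _ (phi0_ker hQ hn h2 m hm)
  exact key _ pgoAut_eq

end PGO

end Cfsg.Agent.Lib.Helper5.OrthAut
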