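import Mathlib
import Cfsg.Agent.Lib.Helper5.Orth.PlusFamily
import Cfsg.Agent.Lib.Helper5.Orth.TransMaxTS
import Cfsg.Agent.Lib.Helper5.OrthAut.PGOQuot

set_option autoImplicit false
set_option linter.unusedSectionVars false
open Cfsg

/-!
The two parity classes of maximal totally singular subspaces of a hyperbolic space, and the
similarities that preserve them: exactly those with `det g = μ(g)^m`.
-/

namespace Cfsg.Agent.Lib.Helper5.OrthCls

open Matrix Cfsg.Agent.H9.Orth Cfsg.Agent.Lib.Helper5.OrthSN Cfsg.Agent.Lib.Helper5.OrthPar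
open Cfsg.Agent.Lib.Helper5.OrthTv Cfsg.Agent.Lib.Helper5.OrthAut

section General

variable {ι : Type} [Fintype ι] [DecidableEq ι] {F : Type*} [Field F] {Q : (ι → F) → F}
variable (hQ : Cfsg.Geo.IsNondegenerateQuadraticForm Q)
include hQ

lemma ts_finrank_le (U : Submodule F (ι → F)) (hU : Cfsg.Geo.IsTotallySingularQuad Q U) :
    2 * Module.finrank F U ≤ Fintype.card ι := by
  have h1 := Submodule.finrank_mono (ts_le_perp hQ U hU)
  have h2 := finrank_add_finrank_perp hQ U
  omega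

/-- a totally singular subspace of less than half the dimension is not maximal, as soon as some
totally singular subspace of half the dimension exists -/
lemma exists_ts_gt (m : ℕ) (hm : Fintype.card ι = 2 * m) (U₀ : Submodule F (ι → F))
    (h₀ : IsMaxTS Q U₀) (U : Submodule F (ι → F))
    (hU : Cfsg.Geo.IsTotallySingularQuad Q U) (hlt : Module.finrank F U < m) :
    ∃ W, Cfsg.Geo.IsTotallySingularQuad Q W ∧ U ≤ W ∧ W ≠ U := by
  set X := perp hQ (U ⊔ U₀) with hX
  have hXU : X ≤ perp hQ U := perp_anti hQ le_sup_left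
  have hXU₀ : X ≤ U₀ := by
    have := perp_anti hQ (le_sup_right : U₀ ≤ U ⊔ U₀)
    rwa [maxTS_perp hQ U₀ h₀] at this
  have hXts : Cfsg.Geo.IsTotallySingularQuad Q X := fun v hv => h₀.1 v (hXU₀ hv)
  refine ⟨U ⊔ X, ts_sup hQ U X hU hXts (le_perp_comm hQ hXU), le_sup_left, ?_⟩
  intro heq
  have hXleU : X ≤ U := by rw [← heq]; exact le_sup_right
  have hXle : X ≤ U ⊓ U₀ := le_inf hXleU hXU₀
  have h1 := Submodule.finrank_mono hXle
  have h2 : Module.finrank F X = Fintype.card ι - Module.finrank F ↥(U ⊔ U₀) :=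
    finrank_perp hQ (U ⊔ U₀)
  have h3 := Submodule.finrank_sup_add_finrank_inf_eq U U₀
  have h4 : Module.finrank F U₀ = m := by have := h₀.2; omega
  have h5 : Module.finrank F ↥(U ⊔ U₀) ≤ Fintype.card ι := by
    have := Submodule.finrank_le (U ⊔ U₀)
    rwa [Module.finrank_fintype_fun_eq_card] at this
  omega

/-- in a hyperbolic space, the inclusion-maximal totally singular subspaces are those of half the
dimension -/
lemma maxTotSing_iff (m : ℕ) (hm : Fintype.card ι = 2 * m) (U₀ : Submodule F (ι → F))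
    (h₀ : IsMaxTS Q U₀) (U : Submodule F (ι → F)) :
    Cfsg.IsMaxTotallySingular Q U ↔ IsMaxTS Q U := by
  constructor
  · rintro ⟨hts, hmax⟩
    refine ⟨hts, ?_⟩
    have h1 := ts_finrank_le hQ U hts
    by_contra hne
    have hlt : Module.finrank F U < m := by omega
    obtain ⟨W, hW, hUW, hWU⟩ := exists_ts_gt hQ m hm U₀ h₀ U hts hlt
    exact hWU (hmax W hW hUW)
  · intro hU
    refine ⟨hU.1, fun W hW hUW => ?_⟩
    symm
    apply Submodule.eq_of_le_of_finrank_le hUW
    have := ts_finrank_le hQ W hW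
    have := hU.2
    omega

omit hQ in
lemma sameParity_symm (m : ℕ) (hm : Fintype.card ι = 2 * m) (A B : Submodule F (ι → F))
    (hA : IsMaxTS Q A) (hB : IsMaxTS Q B) :
    Cfsg.SameParityClass A B ↔ Cfsg.SameParityClass B A := by
  unfold Cfsg.SameParityClass
  have h1 : Module.finrank F A = m := by have := hA.2; omega
  have h2 : Module.finrank F B = m := by have := hB.2; omega
  rw [h1, h2, inf_comm]

lemma sameParity_iff_par (hgen : Cfsg.isometryGroup F Q ≤ RR hQ) (m : ℕ)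
    (hm : Fintype.card ι = 2 * m) (U : Submodule F (ι → F)) (hU : IsMaxTS Q U) (g : GL ι F)
    (hg : g ∈ Cfsg.isometryGroup F Q) :
    Cfsg.SameParityClass U (mapS g U) ↔ par g := by
  have hd : Module.finrank F U = m := by have := hU.2; omega
  unfold Cfsg.SameParityClass
  rw [hd]
  exact family_parity hQ hgen U m hm hU g hg

/-- the isometry group is transitive on the maximal totally singular subspaces -/
lemma exists_iso_map [Fintype F] (m : ℕ) (hm : Fintype.card ι = 2 * m) (A B : Submodule F (ι → F))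
    (hA : IsMaxTS Q A) (hB : IsMaxTS Q B) :
    ∃ h : GL ι F, h ∈ Cfsg.isometryGroup F Q ∧ mapS h A = B := by
  have hdA : Module.finrank F A = m := by have := hA.2; omega
  have hdB : Module.finrank F B = m := by have := hB.2; omega
  have φ : A ≃ₗ[F] B := LinearEquiv.ofFinrankEq A B (by rw [hdA, hdB])
  obtain ⟨g₀, hg₀, hmap⟩ := witt_GL' hQ A B φ (fun x => by rw [hA.1 _ x.2, hB.1 _ (φ x).2])
  refine ⟨g₀, hg₀, ?_⟩
  rw [← hmap, mapS, Matrix.toLin'_apply']

/-- "same parity class" is an equivalence relation with two classes -/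
lemma sameParity_trans [Fintype F] (hgen : Cfsg.isometryGroup F Q ≤ RR hQ) (m : ℕ)
    (hm : Fintype.card ι = 2 * m) (A B C : Submodule F (ι → F))
    (hA : IsMaxTS Q A) (hB : IsMaxTS Q B) (hC : IsMaxTS Q C) :
    Cfsg.SameParityClass A C ↔ (Cfsg.SameParityClass A B ↔ Cfsg.SameParityClass B C) := by
  obtain ⟨h, hh, rfl⟩ := exists_iso_map hQ m hm A B hA hB
  obtain ⟨k, hk, rfl⟩ := exists_iso_map hQ m hm (mapS h A) C hB hC
  rw [sameParity_iff_par hQ hgen m hm A hA h hh, sameParity_iff_par hQ hgen m hm _ hB k hk,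
    ← mapS_mul, sameParity_iff_par hQ hgen m hm A hA (k * h) (mul_mem hk hh),
    par_mul_gen hQ hgen k h hk hh]
  tauto

end General

section Sim

variable {ι : Type} [Fintype ι] [DecidableEq ι] {F : Type*} [Field F] [Fintype F]
variable {Q : (ι → F) → F}
variable (hQ : Cfsg.Geo.IsNondegenerateQuadraticForm Q)

omit [Fintype F] in
lemma mapS_scalarGL (l : F) (hl : l ≠ 0) (U : Submodule F (ι → F)) :
    mapS (scalarGL l hl : GL ι F) U = U := by
  ext v
  rw [mem_mapS]
  constructor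
  · rintro ⟨w, hw, rfl⟩
    rw [act_scalarGL]
    exact U.smul_mem l hw
  · intro hv
    refine ⟨l⁻¹ • v, U.smul_mem _ hv, ?_⟩
    rw [act_scalarGL, smul_smul, mul_inv_cancel₀ hl, one_smul]

omit [Fintype F] in
lemma maxTS_mapS_sim (d : GL ι F) (c : F) (hd : ∀ v, Q (act d v) = c * Q v)
    (U : Submodule F (ι → F)) (hU : IsMaxTS Q U) : IsMaxTS Q (mapS d U) := by
  refine ⟨?_, by rw [finrank_mapS]; exact hU.2⟩
  intro v hv
  obtain ⟨w, hw, rfl⟩ := (mem_mapS d U v).1 hv
  rw [hd, hU.1 w hw, mul_zero]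

include hQ

omit [Fintype F] in
/-- a similarity with square multiplier is a scalar times an isometry -/
lemma exists_scalar_mul_iso [Nonempty ι] (g : ↥(Cfsg.Geo.quadSimilarityGroup (F := F) Q)) (l : F)
    (hl : (mu g : F) = l * l) :
    ∃ (hl0 : l ≠ 0) (g' : GL ι F), g' ∈ Cfsg.isometryGroup F Q ∧
      (g : GL ι F) = scalarGL l hl0 * g' := by
  have hl0 : l ≠ 0 := by
    rintro rfl
    rw [mul_zero] at hl
    exact Units.ne_zero _ hl
  refine ⟨hl0, (scalarGL l hl0)⁻¹ * (g : GL ι F), ?_, by group⟩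
  rw [mem_isometryGroup_iff]
  intro x
  have h1 : act ((scalarGL l hl0 : GL ι F)⁻¹ * (g : GL ι F)) x = l⁻¹ • act (g : GL ι F) x := by
    rw [act_mul]
    have h3 : act (scalarGL l hl0 : GL ι F) (l⁻¹ • act (g : GL ι F) x) = act (g : GL ι F) x := by
      rw [act_scalarGL, smul_smul, mul_inv_cancel₀ hl0, one_smul]
    have h4 := act_inv_act (scalarGL l hl0 : GL ι F) (l⁻¹ • act (g : GL ι F) x)
    rw [h3] at h4
    exact h4
  rw [h1, Q_smul hQ, mu_spec g, hl]
  field_simp

/-- a similarity with square multiplier preserves the two classes iff `det g = μ(g)^m` -/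
theorem preserves_iff_of_sq [Nonempty ι] (h2 : (2 : F) ≠ 0)
    (hgen : Cfsg.isometryGroup F Q ≤ RR hQ) (m : ℕ)
    (hm : Fintype.card ι = 2 * m) (U₀ : Submodule F (ι → F)) (h₀ : IsMaxTS Q U₀)
    (g : ↥(Cfsg.Geo.quadSimilarityGroup (F := F) Q)) (hsq : IsSquare (mu g : F)) :
    Cfsg.PreservesSingularClasses Q ((g : GL ι F) : Matrix ι ι F) ↔
      ((g : GL ι F) : Matrix ι ι F).det = (mu g : F) ^ m := by
  obtain ⟨l, hl⟩ := hsq
  obtain ⟨hl0, g', hg', hgg'⟩ := exists_scalar_mul_iso hQ g l hl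
  have himg : ∀ U : Submodule F (ι → F),
      Cfsg.imageSubmodule ((g : GL ι F) : Matrix ι ι F) U = mapS g' U := by
    intro U
    show mapS (g : GL ι F) U = mapS g' U
    rw [hgg', mapS_mul, mapS_scalarGL]
  have hdet : ((g : GL ι F) : Matrix ι ι F).det = (l * l) ^ m * (g' : Matrix ι ι F).det := by
    rw [hgg', Units.val_mul, Matrix.det_mul, det_scalarGL, hm, pow_mul, pow_two]
  have hlm : (l * l) ^ m ≠ 0 := pow_ne_zero _ (mul_ne_zero hl0 hl0)
  have hiff : ((g : GL ι F) : Matrix ι ι F).det = (mu g : F) ^ m ↔ par g' := by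
    rw [par_iff_det hQ h2 hgen g' hg', hdet, hl]
    constructor
    · intro h
      have h' : (l * l) ^ m * (g' : Matrix ι ι F).det = (l * l) ^ m * 1 := by rw [h, mul_one]
      exact mul_left_cancel₀ hlm h'
    · intro h
      rw [h, mul_one]
  rw [hiff]
  constructor
  · intro hP
    have h1 := hP U₀ ((maxTotSing_iff hQ m hm U₀ h₀ U₀).2 h₀)
    rw [himg] at h1
    exact (sameParity_iff_par hQ hgen m hm U₀ h₀ g' hg').1 h1
  · intro hpar U hU
    rw [himg]
    exact (sameParity_iff_par hQ hgen m hm U ((maxTotSing_iff hQ m hm U₀ h₀ U).1 hU) g' hg').2 hpar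

omit hQ [Fintype F] in
lemma par_conj (d h : GL ι F) : par (d * h * d⁻¹) ↔ par h := by
  unfold par
  have h1 : ((d * h * d⁻¹ : GL ι F) : Matrix ι ι F) - 1 =
      (d : Matrix ι ι F) * ((h : Matrix ι ι F) - 1) * ((d⁻¹ : GL ι F) : Matrix ι ι F) := by
    rw [Units.val_mul, Units.val_mul, Matrix.mul_sub, Matrix.sub_mul, Matrix.mul_one,
      ← Units.val_mul d d⁻¹, mul_inv_cancel, Units.val_one]
  rw [h1, Matrix.rank_mul_eq_left_of_isUnit_det _ _
      ((Matrix.isUnit_iff_isUnit_det _).1 (d⁻¹ : GL ι F).isUnit),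
    Matrix.rank_mul_eq_right_of_isUnit_det _ _ ((Matrix.isUnit_iff_isUnit_det _).1 d.isUnit)]

/-- a similarity fixing one maximal totally singular subspace preserves both classes -/
lemma sameParity_sim_of_fix (hgen : Cfsg.isometryGroup F Q ≤ RR hQ) (m : ℕ)
    (hm : Fintype.card ι = 2 * m) (U₀ : Submodule F (ι → F)) (h₀ : IsMaxTS Q U₀)
    (d : GL ι F) (c : F) (hc : c ≠ 0) (hd : ∀ v, Q (act d v) = c * Q v)
    (hfix : mapS d U₀ = U₀) (W : Submodule F (ι → F)) (hW : IsMaxTS Q W) :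
    Cfsg.SameParityClass W (mapS d W) := by
  have hdG : d ∈ Cfsg.Geo.quadSimilarityGroup (F := F) Q := ⟨Units.mk0 c hc, hd⟩
  obtain ⟨h, hh, rfl⟩ := exists_iso_map hQ m hm U₀ W h₀ hW
  have hh' : d * h * d⁻¹ ∈ Cfsg.isometryGroup F Q := conj_mem_iso d hdG h hh
  have e1 : mapS d (mapS h U₀) = mapS (d * h * d⁻¹) U₀ := by
    conv_rhs => rw [← hfix]
    rw [← mapS_mul, ← mapS_mul]
    congr 1
    group
  rw [e1, sameParity_trans hQ hgen m hm (mapS h U₀) U₀ (mapS (d * h * d⁻¹) U₀) hW h₀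
      (maxTS_mapS hQ _ hh' U₀ h₀),
    sameParity_symm m hm (mapS h U₀) U₀ hW h₀,
    sameParity_iff_par hQ hgen m hm U₀ h₀ h hh,
    sameParity_iff_par hQ hgen m hm U₀ h₀ _ hh', par_conj]

/-- a similarity preserves the two classes of maximal totally singular subspaces iff
`det g = μ(g)^m`, given a similarity with nonsquare multiplier of that kind fixing a maximal totally
singular subspace -/
theorem preserves_iff [Nonempty ι] (h2 : (2 : F) ≠ 0)
    (hgen : Cfsg.isometryGroup F Q ≤ RR hQ) (m : ℕ)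
    (hm : Fintype.card ι = 2 * m) (U₀ : Submodule F (ι → F)) (h₀ : IsMaxTS Q U₀)
    (d : GL ι F) (c : F) (hc : ¬ IsSquare c) (hd : ∀ v, Q (act d v) = c * Q v)
    (hdet : (d : Matrix ι ι F).det = c ^ m) (hfix : mapS d U₀ = U₀)
    (g : ↥(Cfsg.Geo.quadSimilarityGroup (F := F) Q)) :
    Cfsg.PreservesSingularClasses Q ((g : GL ι F) : Matrix ι ι F) ↔
      ((g : GL ι F) : Matrix ι ι F).det = (mu g : F) ^ m := by
  by_cases hsq : IsSquare (mu g : F)
  · exact preserves_iff_of_sq hQ h2 hgen m hm U₀ h₀ g hsq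
  have hc0 : c ≠ 0 := by
    rintro rfl
    exact hc ⟨0, by simp⟩
  have hdG : d ∈ Cfsg.Geo.quadSimilarityGroup (F := F) Q := ⟨Units.mk0 c hc0, hd⟩
  set dd : ↥(Cfsg.Geo.quadSimilarityGroup (F := F) Q) := ⟨d, hdG⟩ with hdd
  have hmud : (mu dd : F) = c := mu_unique hQ _ c hd
  set g₁ := dd⁻¹ * g with hg₁
  have hmu1 : (mu g : F) = c * (mu g₁ : F) := by
    have h1 : mu (dd * g₁) = mu dd * mu g₁ := mu_mul hQ _ _
    rw [hg₁, mul_inv_cancel_left] at h1
    rw [h1, Units.val_mul, hmud]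
  have hsq1 : IsSquare (mu g₁ : F) := by
    by_contra hns
    apply hsq
    rw [hmu1, isSquare_mul_iff hc0 (Units.ne_zero _)]
    tauto
  obtain ⟨l, hl⟩ := hsq1
  obtain ⟨hl0, g', hg', hgg'⟩ := exists_scalar_mul_iso hQ g₁ l hl
  have hgd : (g : GL ι F) = d * (scalarGL l hl0 * g') := by
    rw [← hgg', hg₁]
    show (g : GL ι F) = d * (d⁻¹ * (g : GL ι F))
    group
  have himg : ∀ U : Submodule F (ι → F),
      Cfsg.imageSubmodule ((g : GL ι F) : Matrix ι ι F) U = mapS d (mapS g' U) := by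
    intro U
    show mapS (g : GL ι F) U = _
    rw [hgd, mapS_mul, mapS_mul, mapS_scalarGL]
  have hdetg : ((g : GL ι F) : Matrix ι ι F).det =
      c ^ m * (l * l) ^ m * (g' : Matrix ι ι F).det := by
    rw [hgd, Units.val_mul, Matrix.det_mul, Units.val_mul, Matrix.det_mul, det_scalarGL, hm,
      pow_mul, pow_two, hdet]
    ring
  have hlm : c ^ m * (l * l) ^ m ≠ 0 :=
    mul_ne_zero (pow_ne_zero _ hc0) (pow_ne_zero _ (mul_ne_zero hl0 hl0))
  have hiff : ((g : GL ι F) : Matrix ι ι F).det = (mu g : F) ^ m ↔ par g' := by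
    rw [par_iff_det hQ h2 hgen g' hg', hdetg, hmu1, hl, mul_pow c (l * l) m]
    constructor
    · intro h
      have h' : c ^ m * (l * l) ^ m * (g' : Matrix ι ι F).det = c ^ m * (l * l) ^ m * 1 := by
        rw [h, mul_one]
      exact mul_left_cancel₀ hlm h'
    · intro h
      rw [h, mul_one]
  rw [hiff]
  have hkey : ∀ U : Submodule F (ι → F), IsMaxTS Q U →
      (Cfsg.SameParityClass U (mapS d (mapS g' U)) ↔ par g') := by
    intro U hU
    have hW := maxTS_mapS hQ g' hg' U hU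
    rw [sameParity_trans hQ hgen m hm U (mapS g' U) _ hU hW (maxTS_mapS_sim d c hd _ hW),
      sameParity_iff_par hQ hgen m hm U hU g' hg']
    have := sameParity_sim_of_fix hQ hgen m hm U₀ h₀ d c hc0 hd hfix _ hW
    tauto
  constructor
  · intro hP
    have h1 := hP U₀ ((maxTotSing_iff hQ m hm U₀ h₀ U₀).2 h₀)
    rw [himg] at h1
    exact (hkey U₀ h₀).1 h1
  · intro hpar U hU
    rw [himg]
    exact (hkey U ((maxTotSing_iff hQ m hm U₀ h₀ U).1 hU)).2 hpar

end Sim

end Cfsg.Agent.Lib.Helper5.OrthCls
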