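import Mathlib
import Cfsg.Agent.Lib.Helper5.OrthAut.Classes

set_option autoImplicit false
set_option linter.unusedSectionVars false
open Cfsg

/-!
Base change of similarities of a quadratic form along a field homomorphism.
-/

namespace Cfsg.Agent.Lib.Helper5.OrthCls

open Matrix Cfsg.Agent.H9.Orth Cfsg.Agent.Lib.Helper5.OrthSN Cfsg.Agent.Lib.Helper5.OrthPar
open Cfsg.Agent.Lib.Helper5.OrthTv Cfsg.Agent.Lib.Helper5.OrthAut

section BaseChange

variable {ι : Type} [Fintype ι] [DecidableEq ι] {F : Type*} [Field F] {K : Type*} [Field K]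
variable (f : F →+* K)
variable {Q : (ι → F) → F} {QK : (ι → K) → K}

lemma comp_add' (x y : ι → F) : (f ∘ (x + y) : ι → K) = f ∘ x + f ∘ y := by
  funext i
  simp

lemma pol_comp (hcompat : ∀ v : ι → F, QK (f ∘ v) = f (Q v)) (x y : ι → F) :
    pol QK (f ∘ x) (f ∘ y) = f (pol Q x y) := by
  show QK (f ∘ x + f ∘ y) - QK (f ∘ x) - QK (f ∘ y) = f (Q (x + y) - Q x - Q y)
  rw [← comp_add', hcompat, hcompat, hcompat, map_sub, map_sub]

lemma pol_sim (g : GL ι F) (c : F) (hg : ∀ v, Q (act g v) = c * Q v) (x y : ι → F) :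
    pol Q (act g x) (act g y) = c * pol Q x y := by
  show Q (act g x + act g y) - Q (act g x) - Q (act g y) = c * (Q (x + y) - Q x - Q y)
  have : act g x + act g y = act g (x + y) := by
    show (g : Matrix ι ι F) *ᵥ x + (g : Matrix ι ι F) *ᵥ y = (g : Matrix ι ι F) *ᵥ (x + y)
    rw [Matrix.mulVec_add]
  rw [this, hg, hg, hg]
  ring

lemma act_map (g : GL ι F) (v : ι → F) :
    act (Matrix.GeneralLinearGroup.map f g) (f ∘ v) = f ∘ act g v := by
  funext i
  exact (RingHom.map_mulVec f (g : Matrix ι ι F) v i).symm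

lemma single_comp (i : ι) : (Pi.single i (1 : K) : ι → K) = f ∘ (Pi.single i (1 : F) : ι → F) := by
  funext j
  by_cases h : j = i
  · subst h; simp
  · simp [h]

/-- base change of a similarity is a similarity -/
theorem sim_baseChange (hQK : Cfsg.Geo.IsNondegenerateQuadraticForm QK)
    (hcompat : ∀ v : ι → F, QK (f ∘ v) = f (Q v)) (h2 : (2 : K) ≠ 0)
    (g : GL ι F) (c : F) (hg : ∀ v, Q (act g v) = c * Q v) (w : ι → K) :
    QK (act (Matrix.GeneralLinearGroup.map f g) w) = f c * QK w := by
  set gK := Matrix.GeneralLinearGroup.map f g with hgK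
  set B1 : LinearMap.BilinForm K (ι → K) :=
    (BF hQK).compl₁₂ (Matrix.toLin' (gK : Matrix ι ι K)) (Matrix.toLin' (gK : Matrix ι ι K))
    with hB1
  set B2 : LinearMap.BilinForm K (ι → K) := (f c) • BF hQK with hB2
  have hB : B1 = B2 := by
    apply LinearMap.BilinForm.ext_basis (Pi.basisFun K ι)
    intro i j
    rw [hB1, hB2, LinearMap.compl₁₂_apply, LinearMap.smul_apply, LinearMap.smul_apply, BF_apply, BF_apply,
      Pi.basisFun_apply, Pi.basisFun_apply, Matrix.toLin'_apply, Matrix.toLin'_apply]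
    show pol QK (act gK (Pi.single i 1)) (act gK (Pi.single j 1)) = f c * _
    rw [single_comp f i, single_comp f j, act_map, act_map, pol_comp f hcompat,
      pol_comp f hcompat, pol_sim g c hg, map_mul]
  have h1 : B1 w w = pol QK (act gK w) (act gK w) := by
    rw [hB1, LinearMap.compl₁₂_apply, BF_apply, Matrix.toLin'_apply]
  have h3 : B2 w w = f c * pol QK w w := by
    rw [hB2, LinearMap.smul_apply, LinearMap.smul_apply, BF_apply]
    rfl
  rw [hB, h3, pol_self hQK, pol_self hQK] at h1
  have : (2 : K) * (f c * QK w) = 2 * QK (act gK w) := by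
    rw [← h1]; ring
  exact (mul_left_cancel₀ h2 this).symm

lemma det_map (g : GL ι F) :
    ((Matrix.GeneralLinearGroup.map f g : GL ι K) : Matrix ι ι K).det =
      f ((g : Matrix ι ι F).det) := by
  show ((g : Matrix ι ι F).map f).det = _
  exact (RingHom.map_det f _).symm

end BaseChange

end Cfsg.Agent.Lib.Helper5.OrthCls
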