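import Mathlib
import Cfsg.Agent.Lib.Helper5.OrthAut.PGOQuot
import Cfsg.Agent.Lib.Helper5.Grp.D8Recog

set_option autoImplicit false
set_option linter.unusedSectionVars false
open Cfsg

/-!
The image of `GO` in `Aut(PΩ)` modulo `Inn(PΩ)`: a Klein four-group if `-1 ∉ Ω`, dihedral of
order 8 if `-1 ∈ Ω` (even dimension at least 8, odd characteristic).
-/

namespace Cfsg.Agent.Lib.Helper5.OrthAut

open Matrix Cfsg.Agent.H9.Orth Cfsg.Agent.Lib.Helper5.OrthSN Cfsg.Agent.Lib.Helper5.OrthPar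
open Cfsg.Agent.Lib.Helper5.OrthTv

section PGOInn

variable {ι : Type} [Fintype ι] [DecidableEq ι] {F : Type*} [Field F] [Fintype F]
variable {Q : (ι → F) → F}
variable (hQ : Cfsg.Geo.IsNondegenerateQuadraticForm Q)
include hQ

omit [Fintype F] in
/-- conjugating a reflection by a similarity -/
lemma conj_rf_GO (d : GL ι F) (c : F) (hc : c ≠ 0) (hd : ∀ v, Q (act d v) = c * Q v)
    (x : ι → F) : d * rf hQ x * d⁻¹ = rf hQ (act d x) := by
  have hdG : d ∈ Cfsg.Geo.quadSimilarityGroup (F := F) Q := ⟨Units.mk0 c hc, hd⟩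
  have hpol : ∀ u v, pol Q (act d u) (act d v) = c * pol Q u v := by
    intro u v
    unfold pol QuadraticMap.polar
    rw [← act_add, hd, hd, hd]
    ring
  by_cases hx : Q x ≠ 0
  · have hx' : Q (act d x) ≠ 0 := by rw [hd]; exact mul_ne_zero hc hx
    apply gl_ext
    intro y
    rw [act_mul, act_mul, act_rf hQ x hx, act_rf hQ _ hx', act_sub, act_smul, act_act_inv, hd]
    have h1 : pol Q y (act d x) = c * pol Q (act d⁻¹ y) x := by
      rw [← hpol, act_act_inv]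
    rw [h1]
    congr 2
    field_simp
  · have hx' : ¬ Q (act d x) ≠ 0 := by
      rw [hd]
      push Not at hx ⊢
      rw [hx, mul_zero]
    rw [rf_of_not hQ x hx, rf_of_not hQ _ hx', mul_one, mul_inv_cancel]

lemma omega'_le_SO' (h2 : (2 : F) ≠ 0) (hgen : Cfsg.isometryGroup F Q ≤ RR hQ) :
    (Cfsg.Geo.omegaGL Q).subgroupOf (Cfsg.Geo.quadSimilarityGroup (F := F) Q) ≤
      (Cfsg.specialIsometryGL F Q).subgroupOf (Cfsg.Geo.quadSimilarityGroup (F := F) Q) := by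
  intro x hx
  rw [Subgroup.mem_subgroupOf] at hx ⊢
  rw [specialIsometryGL_eq_map]
  obtain ⟨y, hy, hyx⟩ := hx
  exact ⟨y, omega_le_SO hQ h2 hgen hy, hyx⟩

lemma inn_le_pso (h2 : (2 : F) ≠ 0) (hgen : Cfsg.isometryGroup F Q ≤ RR hQ) :
    Cfsg.Inn (Cfsg.POmega F Q) ≤ Cfsg.psoAut F Q := by
  rw [inn_eq, psoAut_eq]
  exact Subgroup.map_mono (omega'_le_SO' hQ h2 hgen)

omit hQ [Fintype F] in
lemma pso_le_pgo : Cfsg.psoAut F Q ≤ Cfsg.pgoAut F Q := by
  rw [psoAut_eq, pgoAut_eq]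
  exact Subgroup.map_le_range _ _

/-- if `-1 ∉ Ω`, the image of `GO` modulo `Inn(PΩ)` is a Klein four-group -/
theorem pgo_mod_inn_klein (hn : 7 ≤ Fintype.card ι) (h2 : (2 : F) ≠ 0)
    (hgen : Cfsg.isometryGroup F Q ≤ RR hQ) (m : ℕ)
    (hm : Fintype.card ι = 2 * m) (d : GL ι F) (c : F) (hc : ¬ IsSquare c)
    (hd : ∀ v, Q (act d v) = c * Q v)
    (hno : ¬ ∃ g : ↥(Cfsg.isometryGroup F Q), g ∈ Cfsg.Omega F Q ∧
      ((g : GL ι F) : Matrix ι ι F) = -1) :
    ∃ φ : ↥(Cfsg.pgoAut F Q) →* Multiplicative (ZMod 2 × ZMod 2), Function.Surjective φ ∧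
      φ.ker = (Cfsg.Inn (Cfsg.POmega F Q)).subgroupOf (Cfsg.pgoAut F Q) := by
  have h1 := relIndex_inn_pso_of_not hQ hn h2 hgen (by rw [hm]; exact ⟨m, by ring⟩) hno
  rw [Subgroup.relIndex_eq_one] at h1
  have heq : Cfsg.Inn (Cfsg.POmega F Q) = Cfsg.psoAut F Q :=
    le_antisymm (inn_le_pso hQ h2 hgen) h1
  rw [heq]
  exact pgo_mod_pso hQ hn h2 m hm d c hc hd

set_option maxHeartbeats 1000000 in
/-- if `-1 ∈ Ω`, the image of `GO` modulo `Inn(PΩ)` is dihedral of order 8 -/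
theorem pgo_mod_inn_dihedral (hn : 7 ≤ Fintype.card ι) (h2 : (2 : F) ≠ 0)
    (hgen : Cfsg.isometryGroup F Q ≤ RR hQ) (m : ℕ)
    (hm : Fintype.card ι = 2 * m) (d : GL ι F) (c : F) (hc : ¬ IsSquare c)
    (hd : ∀ v, Q (act d v) = c * Q v)
    (g₀ : ↥(Cfsg.isometryGroup F Q)) (hg₀ : g₀ ∈ Cfsg.Omega F Q)
    (hval : ((g₀ : GL ι F) : Matrix ι ι F) = -1) :
    ∃ φ : ↥(Cfsg.pgoAut F Q) →* DihedralGroup 4, Function.Surjective φ ∧
      φ.ker = (Cfsg.Inn (Cfsg.POmega F Q)).subgroupOf (Cfsg.pgoAut F Q) := by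
  have : Nonempty ι := by
    rw [← Fintype.card_pos_iff]; omega
  have hg₀' : (g₀ : GL ι F) = -1 := by
    apply Units.ext
    rw [hval, Units.val_neg, Units.val_one]
  have hc0 : c ≠ 0 := by
    rintro rfl
    exact hc ⟨0, by simp⟩
  have hdG : d ∈ Cfsg.Geo.quadSimilarityGroup (F := F) Q := ⟨Units.mk0 c hc0, hd⟩
  -- the index of `Inn` in the image of `GO` is 8
  have hidx : (Cfsg.Inn (Cfsg.POmega F Q)).relIndex (Cfsg.pgoAut F Q) = 8 := by
    rw [← Subgroup.relIndex_mul_relIndex _ _ _ (inn_le_pso hQ h2 hgen) pso_le_pgo,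
      relIndex_inn_pso_of_neg_mem hQ hn h2 hgen g₀ hg₀ hval]
    obtain ⟨φ, hsurj, hker⟩ := pgo_mod_pso hQ hn h2 m hm d c hc hd
    have h4 : (Cfsg.psoAut F Q).relIndex (Cfsg.pgoAut F Q) = 4 := by
      unfold Subgroup.relIndex
      rw [← hker, Subgroup.index_ker, MonoidHom.range_eq_top.2 hsurj,
        Nat.card_congr Subgroup.topEquiv.toEquiv, Nat.card_eq_fintype_card]
      rfl
    rw [h4]
  obtain ⟨x, hx⟩ := exists_nonsing hQ
  have key : ∀ P : Subgroup (MulAut (Cfsg.POmega F Q)), P = (conjHom Q).range →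
      (Cfsg.Inn (Cfsg.POmega F Q)).relIndex P = 8 →
      ∃ φ : ↥P →* DihedralGroup 4, Function.Surjective φ ∧
        φ.ker = (Cfsg.Inn (Cfsg.POmega F Q)).subgroupOf P := by
    rintro P rfl hidx'
    set N := (Cfsg.Inn (Cfsg.POmega F Q)).subgroupOf (conjHom Q).range with hN
    have hcard : Nat.card (↥(conjHom Q).range ⧸ N) = 8 := by
      rw [← Subgroup.index_eq_card]
      exact hidx'
    -- the reflection and the similarity
    set r : ↥(Cfsg.Geo.quadSimilarityGroup (F := F) Q) :=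
      ⟨rf hQ x, iso_le_GO (rf_mem hQ x)⟩ with hr
    set dd : ↥(Cfsg.Geo.quadSimilarityGroup (F := F) Q) := ⟨d, hdG⟩ with hdd
    set t : ↥(conjHom Q).range ⧸ N := QuotientGroup.mk ⟨conjHom Q r, r, rfl⟩ with ht
    set g : ↥(conjHom Q).range ⧸ N := QuotientGroup.mk ⟨conjHom Q dd, dd, rfl⟩ with hg
    have htt : t * t = 1 := by
      rw [ht, ← QuotientGroup.mk_mul]
      have : (⟨conjHom Q r, r, rfl⟩ : ↥(conjHom Q).range) * ⟨conjHom Q r, r, rfl⟩ = 1 := by
        apply Subtype.ext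
        show conjHom Q r * conjHom Q r = 1
        rw [← map_mul]
        have : r * r = 1 := by
          apply Subtype.ext
          exact rf_mul_self hQ x
        rw [this, map_one]
      rw [this]
      rfl
    have hgt : g * t ≠ t * g := by
      intro h
      have h1 : (QuotientGroup.mk ((⟨conjHom Q dd, dd, rfl⟩ : ↥(conjHom Q).range) *
          ⟨conjHom Q r, r, rfl⟩ * (⟨conjHom Q dd, dd, rfl⟩ : ↥(conjHom Q).range)⁻¹ *
          (⟨conjHom Q r, r, rfl⟩ : ↥(conjHom Q).range)⁻¹) : ↥(conjHom Q).range ⧸ N) = 1 := by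
        rw [QuotientGroup.mk_mul, QuotientGroup.mk_mul, QuotientGroup.mk_mul,
          QuotientGroup.mk_inv, QuotientGroup.mk_inv]
        have h' : (QuotientGroup.mk (⟨conjHom Q dd, dd, rfl⟩ : ↥(conjHom Q).range) :
            ↥(conjHom Q).range ⧸ N) * QuotientGroup.mk ⟨conjHom Q r, r, rfl⟩ =
            QuotientGroup.mk ⟨conjHom Q r, r, rfl⟩ * QuotientGroup.mk ⟨conjHom Q dd, dd, rfl⟩ := h
        rw [h']
        group
      rw [QuotientGroup.eq_one_iff] at h1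
      have h3 : conjHom Q (dd * r * dd⁻¹ * r⁻¹) ∈ Cfsg.Inn (Cfsg.POmega F Q) := by
        rw [map_mul, map_mul, map_mul, map_inv, map_inv]
        exact Subgroup.mem_subgroupOf.1 h1
      rw [inn_eq, ← Subgroup.mem_comap, Subgroup.comap_map_eq,
        Subgroup.mem_sup_of_normal_right] at h3
      obtain ⟨ω, hω, k, hk, hωk⟩ := h3
      -- the commutator is a product of two reflections
      have hy : ((dd * r * dd⁻¹ * r⁻¹ : ↥(Cfsg.Geo.quadSimilarityGroup (F := F) Q)) : GL ι F) =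
          rf hQ (act d x) * rf hQ x := by
        show d * rf hQ x * d⁻¹ * (rf hQ x)⁻¹ = _
        rw [conj_rf_GO hQ d c hc0 hd, rf_inv]
      have hyO : rf hQ (act d x) * rf hQ x ∈ Cfsg.isometryGroup F Q :=
        mul_mem (rf_mem hQ _) (rf_mem hQ _)
      have hωO : (ω : GL ι F) ∈ Cfsg.isometryGroup F Q := by
        rw [Subgroup.mem_subgroupOf] at hω
        exact omegaGL_le_iso hω
      have hkO : (k : GL ι F) ∈ Cfsg.isometryGroup F Q := by
        have : (k : GL ι F) = (ω : GL ι F)⁻¹ * (rf hQ (act d x) * rf hQ x) := by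
          rw [← hy, ← hωk, Subgroup.coe_mul]; group
        rw [this]
        exact mul_mem (inv_mem hωO) hyO
      rw [MonoidHom.mem_ker, conjHom_apply] at hk
      have hkΩ : (k : GL ι F) ∈ Cfsg.Geo.omegaGL Q := by
        rcases pm_one_of_conjT_eq_one hQ hn h2 (k : GL ι F) hkO hk with h5 | h5
        · rw [h5]; exact one_mem _
        · rw [h5]; exact ⟨g₀, hg₀, hg₀'⟩
      have hyΩ : rf hQ (act d x) * rf hQ x ∈ Cfsg.Geo.omegaGL Q := by
        rw [← hy, ← hωk, Subgroup.coe_mul]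
        rw [Subgroup.mem_subgroupOf] at hω
        exact mul_mem hω hkΩ
      obtain ⟨y, hyΩ', hyv⟩ := hyΩ
      have hspin := ((mem_omega_iff hQ h2 hgen y).1 hyΩ').2
      have hyv' : (y : GL ι F) = rf hQ (act d x) * rf hQ x := hyv
      rw [hyv', spin_mul_iff hQ hgen _ _ (rf_mem hQ _) (rf_mem hQ _),
        spin_rf hQ _ (by rw [hd]; exact mul_ne_zero hc0 hx), spin_rf hQ x hx, hd] at hspin
      have hnx : -Q x ≠ 0 := neg_ne_zero.2 hx
      have h6 : -(c * Q x) = c * (-Q x) := by ring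
      rw [h6, isSquare_mul_iff hc0 hnx] at hspin
      tauto
    obtain ⟨e⟩ := Cfsg.Agent.Lib.Helper5.D8R.dihedral_of_card_eight hcard t g htt hgt
    refine ⟨e.symm.toMonoidHom.comp (QuotientGroup.mk' N), ?_, ?_⟩
    · exact e.symm.surjective.comp (QuotientGroup.mk'_surjective N)
    · ext z
      rw [MonoidHom.mem_ker, MonoidHom.comp_apply]
      show e.symm (QuotientGroup.mk' N z) = 1 ↔ z ∈ N
      rw [MulEquiv.map_eq_one_iff]
      exact QuotientGroup.eq_one_iff z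
  exact key _ pgoAut_eq hidx

end PGOInn

end Cfsg.Agent.Lib.Helper5.OrthAut
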