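import Mathlib
import Cfsg.Agent.Lib.Helper5.OrthAut.PGOInn
import Cfsg.Agent.Lib.Helper5.Grp.SmallQuot

set_option autoImplicit false
set_option linter.unusedSectionVars false
open Cfsg

/-!
The image in `Aut(PΩ)` of the similarities with `det g = μ(g)^m`, modulo `Inn(PΩ)`:
of order two if `-1 ∉ Ω`; of order four if `-1 ∈ Ω`, and then cyclic or a Klein four-group
according to whether `μ(e)⁻¹ e²` lies outside `Ω` or in `Ω` for one such similarity `e` with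
nonsquare multiplier.
-/

namespace Cfsg.Agent.Lib.Helper5.OrthAut

open Matrix Cfsg.Agent.H9.Orth Cfsg.Agent.Lib.Helper5.OrthSN Cfsg.Agent.Lib.Helper5.OrthPar
open Cfsg.Agent.Lib.Helper5.OrthTv

section InndiagQuot

variable {ι : Type} [Fintype ι] [DecidableEq ι] {F : Type*} [Field F] [Fintype F]
variable {Q : (ι → F) → F}
variable (hQ : Cfsg.Geo.IsNondegenerateQuadraticForm Q)
include hQ

/-- the image in `Aut(PΩ)` of the similarities with `det g = μ(g)^m` -/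
noncomputable def inndiagGen [Nonempty ι] (h2 : (2 : F) ≠ 0) (m : ℕ)
    (hm : Fintype.card ι = 2 * m) : Subgroup (MulAut (Cfsg.POmega F Q)) :=
  ((chiDet hQ h2 m hm).ker).map (conjHom Q)

lemma ker_le_chiDet [Nonempty ι] (hn : 7 ≤ Fintype.card ι) (h2 : (2 : F) ≠ 0) (m : ℕ)
    (hm : Fintype.card ι = 2 * m) : (conjHom Q).ker ≤ (chiDet hQ h2 m hm).ker := by
  intro g hg
  have h1 : g ∈ (phi0 hQ h2 m hm).ker := by
    rw [phi0_ker hQ hn h2 m hm]
    exact Subgroup.mem_sup_right hg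
  rw [MonoidHom.mem_ker, phi0_eq_one_iff] at h1
  rw [MonoidHom.mem_ker, chiDet_eq_one_iff]
  exact h1.2

lemma SO'_le_chiDet [Nonempty ι] (hn : 7 ≤ Fintype.card ι) (h2 : (2 : F) ≠ 0) (m : ℕ)
    (hm : Fintype.card ι = 2 * m) :
    (Cfsg.specialIsometryGL F Q).subgroupOf (Cfsg.Geo.quadSimilarityGroup (F := F) Q) ≤
      (chiDet hQ h2 m hm).ker := by
  intro g hg
  have h1 : g ∈ (phi0 hQ h2 m hm).ker := by
    rw [phi0_ker hQ hn h2 m hm]
    exact Subgroup.mem_sup_left hg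
  rw [MonoidHom.mem_ker, phi0_eq_one_iff] at h1
  rw [MonoidHom.mem_ker, chiDet_eq_one_iff]
  exact h1.2

lemma inn_le_inndiagGen [Nonempty ι] (hn : 7 ≤ Fintype.card ι) (h2 : (2 : F) ≠ 0)
    (hgen : Cfsg.isometryGroup F Q ≤ RR hQ) (m : ℕ) (hm : Fintype.card ι = 2 * m) :
    Cfsg.Inn (Cfsg.POmega F Q) ≤ inndiagGen hQ h2 m hm := by
  rw [inn_eq]
  exact Subgroup.map_mono ((omega'_le_SO' hQ h2 hgen).trans (SO'_le_chiDet hQ hn h2 m hm))

lemma inndiagGen_le_pgo [Nonempty ι] (h2 : (2 : F) ≠ 0) (m : ℕ)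
    (hm : Fintype.card ι = 2 * m) : inndiagGen hQ h2 m hm ≤ Cfsg.pgoAut F Q := by
  rw [pgoAut_eq]
  exact Subgroup.map_le_range _ _

lemma chiDet_rf [Nonempty ι] (h2 : (2 : F) ≠ 0) (m : ℕ) (hm : Fintype.card ι = 2 * m)
    (x : ι → F) (hx : Q x ≠ 0) :
    chiDet hQ h2 m hm ⟨rf hQ x, iso_le_GO (rf_mem hQ x)⟩ = -1 := by
  set r : ↥(Cfsg.Geo.quadSimilarityGroup (F := F) Q) := ⟨rf hQ x, iso_le_GO (rf_mem hQ x)⟩
  have hmur : (mu r : F) = 1 := mu_of_iso hQ r (rf_mem hQ x)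
  rcases Int.units_eq_one_or (chiDet hQ h2 m hm r) with h | h
  · exfalso
    rw [chiDet_eq_one_iff, hmur, one_pow] at h
    have h3 : ((r : GL ι F) : Matrix ι ι F).det = -1 := det_rf hQ x hx
    rw [h3] at h
    apply h2
    linear_combination -h
  · exact h

/-- the image of `{det g = μ(g)^m}` has index two in the image of `GO` -/
lemma relIndex_inndiagGen_pgo [Nonempty ι] (hn : 7 ≤ Fintype.card ι) (h2 : (2 : F) ≠ 0)
    (m : ℕ) (hm : Fintype.card ι = 2 * m) :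
    (inndiagGen hQ h2 m hm).relIndex (Cfsg.pgoAut F Q) = 2 := by
  obtain ⟨x, hx⟩ := exists_nonsing hQ
  unfold inndiagGen
  rw [pgoAut_eq, MonoidHom.range_eq_map, ← Subgroup.relIndex_comap, Subgroup.comap_map_eq,
    sup_of_le_left (ker_le_chiDet hQ hn h2 m hm), Subgroup.relIndex_top_right]
  exact index_ker_of_neg_one _ _ (chiDet_rf hQ h2 m hm x hx)

/-- the index of `Inn(PΩ)` in the image of `{det g = μ(g)^m}` when `-1 ∉ Ω` -/
lemma relIndex_inn_inndiagGen_of_not [Nonempty ι] (hn : 7 ≤ Fintype.card ι) (h2 : (2 : F) ≠ 0)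
    (hgen : Cfsg.isometryGroup F Q ≤ RR hQ) (m : ℕ)
    (hm : Fintype.card ι = 2 * m) (d : GL ι F) (c : F) (hc : ¬ IsSquare c)
    (hd : ∀ v, Q (act d v) = c * Q v)
    (hno : ¬ ∃ g : ↥(Cfsg.isometryGroup F Q), g ∈ Cfsg.Omega F Q ∧
      ((g : GL ι F) : Matrix ι ι F) = -1) :
    (Cfsg.Inn (Cfsg.POmega F Q)).relIndex (inndiagGen hQ h2 m hm) = 2 := by
  have h1 := relIndex_inn_pso_of_not hQ hn h2 hgen (by rw [hm]; exact ⟨m, by ring⟩) hno
  obtain ⟨φ, hsurj, hker⟩ := pgo_mod_pso hQ hn h2 m hm d c hc hd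
  have h4 : (Cfsg.psoAut F Q).relIndex (Cfsg.pgoAut F Q) = 4 := by
    unfold Subgroup.relIndex
    rw [← hker, Subgroup.index_ker, MonoidHom.range_eq_top.2 hsurj,
      Nat.card_congr Subgroup.topEquiv.toEquiv, Nat.card_eq_fintype_card]
    rfl
  have h5 := Subgroup.relIndex_mul_relIndex _ _ _ (inn_le_pso hQ h2 hgen) (pso_le_pgo (Q := Q))
  have h6 := Subgroup.relIndex_mul_relIndex _ _ _ (inn_le_inndiagGen hQ hn h2 hgen m hm)
    (inndiagGen_le_pgo hQ h2 m hm)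
  rw [relIndex_inndiagGen_pgo hQ hn h2 m hm] at h6
  rw [h1, h4] at h5
  omega

/-- the index of `Inn(PΩ)` in the image of `{det g = μ(g)^m}` when `-1 ∈ Ω` -/
lemma relIndex_inn_inndiagGen_of_neg_mem [Nonempty ι] (hn : 7 ≤ Fintype.card ι)
    (h2 : (2 : F) ≠ 0)
    (hgen : Cfsg.isometryGroup F Q ≤ RR hQ) (m : ℕ)
    (hm : Fintype.card ι = 2 * m) (d : GL ι F) (c : F) (hc : ¬ IsSquare c)
    (hd : ∀ v, Q (act d v) = c * Q v)
    (g₀ : ↥(Cfsg.isometryGroup F Q)) (hg₀ : g₀ ∈ Cfsg.Omega F Q)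
    (hval : ((g₀ : GL ι F) : Matrix ι ι F) = -1) :
    (Cfsg.Inn (Cfsg.POmega F Q)).relIndex (inndiagGen hQ h2 m hm) = 4 := by
  have h1 := relIndex_inn_pso_of_neg_mem hQ hn h2 hgen g₀ hg₀ hval
  obtain ⟨φ, hsurj, hker⟩ := pgo_mod_pso hQ hn h2 m hm d c hc hd
  have h4 : (Cfsg.psoAut F Q).relIndex (Cfsg.pgoAut F Q) = 4 := by
    unfold Subgroup.relIndex
    rw [← hker, Subgroup.index_ker, MonoidHom.range_eq_top.2 hsurj,
      Nat.card_congr Subgroup.topEquiv.toEquiv, Nat.card_eq_fintype_card]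
    rfl
  have h5 := Subgroup.relIndex_mul_relIndex _ _ _ (inn_le_pso hQ h2 hgen) (pso_le_pgo (Q := Q))
  have h6 := Subgroup.relIndex_mul_relIndex _ _ _ (inn_le_inndiagGen hQ hn h2 hgen m hm)
    (inndiagGen_le_pgo hQ h2 m hm)
  rw [relIndex_inndiagGen_pgo hQ hn h2 m hm] at h6
  rw [h1, h4] at h5
  omega

/-- `-1 ∉ Ω`: the quotient is `ℤ/2` -/
theorem inndiagGen_mod_inn_two [Nonempty ι] (hn : 7 ≤ Fintype.card ι) (h2 : (2 : F) ≠ 0)
    (hgen : Cfsg.isometryGroup F Q ≤ RR hQ) (m : ℕ)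
    (hm : Fintype.card ι = 2 * m) (d : GL ι F) (c : F) (hc : ¬ IsSquare c)
    (hd : ∀ v, Q (act d v) = c * Q v)
    (hno : ¬ ∃ g : ↥(Cfsg.isometryGroup F Q), g ∈ Cfsg.Omega F Q ∧
      ((g : GL ι F) : Matrix ι ι F) = -1) :
    ∃ φ : ↥(inndiagGen hQ h2 m hm) →* Multiplicative (ZMod 2), Function.Surjective φ ∧
      φ.ker = (Cfsg.Inn (Cfsg.POmega F Q)).subgroupOf (inndiagGen hQ h2 m hm) :=
  Cfsg.Agent.Lib.Helper5.SmallQuot.exists_hom_two _ _
    (relIndex_inn_inndiagGen_of_not hQ hn h2 hgen m hm d c hc hd hno)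

/-- an element of `Ω · scalars` whose multiplier is `c²`... reduced to `c⁻¹ e² ∈ ± Ω` -/
lemma sq_scalar_omega (hn : 7 ≤ Fintype.card ι) (h2 : (2 : F) ≠ 0)
    (e : GL ι F) (ce : F) (hce0 : ce ≠ 0) (he : ∀ v, Q (act e v) = ce * Q v)
    (heG : e ∈ Cfsg.Geo.quadSimilarityGroup (F := F) Q)
    (h : conjHom Q (⟨e, heG⟩ * ⟨e, heG⟩) ∈ Cfsg.Inn (Cfsg.POmega F Q)) :
    scalarGL ce⁻¹ (inv_ne_zero hce0) * (e * e) ∈ Cfsg.Geo.omegaGL Q ∨
      (-1 : GL ι F) * (scalarGL ce⁻¹ (inv_ne_zero hce0) * (e * e)) ∈ Cfsg.Geo.omegaGL Q := by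
  have : Nonempty ι := by
    rw [← Fintype.card_pos_iff]; omega
  rw [inn_eq, ← Subgroup.mem_comap, Subgroup.comap_map_eq,
    Subgroup.mem_sup_of_normal_right] at h
  obtain ⟨ω, hω, k, hk, hωk⟩ := h
  rw [Subgroup.mem_subgroupOf] at hω
  rw [MonoidHom.mem_ker, conjHom_apply] at hk
  obtain ⟨l, hl⟩ := scalar_of_conjT_eq_one hQ hn h2 _ k.2 hk
  have hl0 : l ≠ 0 := by
    rintro rfl
    obtain ⟨x, hx⟩ := exists_nonsing hQ
    have h3 := hl x
    rw [zero_smul, act_eq_zero_iff] at h3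
    rw [h3, Q_zero hQ] at hx
    exact hx rfl
  have hωk' : (ω : GL ι F) * (k : GL ι F) = e * e := by
    have := congrArg (Subtype.val) hωk
    exact this
  have hωO : (ω : GL ι F) ∈ Cfsg.isometryGroup F Q := omegaGL_le_iso hω
  -- the action of ω
  have hact : ∀ v, act (e * e) v = l • act (ω : GL ι F) v := by
    intro v
    rw [← hωk', act_mul, hl, act_smul]
  have hsq : l ^ 2 = ce ^ 2 := by
    obtain ⟨x, hx⟩ := exists_nonsing hQ
    have h3 : Q (act (e * e) x) = ce * (ce * Q x) := by rw [act_mul, he, he]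
    rw [hact, Q_smul hQ, (mem_isometryGroup_iff _).1 hωO] at h3
    have h4 : (l ^ 2 - ce ^ 2) * Q x = 0 := by linear_combination h3
    rcases mul_eq_zero.1 h4 with h5 | h5
    · exact sub_eq_zero.1 h5
    · exact absurd h5 hx
  have hcases : l = ce ∨ l = -ce := by
    have : (l - ce) * (l + ce) = 0 := by linear_combination hsq
    rcases mul_eq_zero.1 this with h5 | h5
    · exact Or.inl (sub_eq_zero.1 h5)
    · exact Or.inr (eq_neg_of_add_eq_zero_left h5)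
  rcases hcases with h5 | h5
  · left
    have : scalarGL ce⁻¹ (inv_ne_zero hce0) * (e * e) = (ω : GL ι F) := by
      apply gl_ext
      intro v
      rw [act_mul, act_scalarGL, hact, h5, smul_smul, inv_mul_cancel₀ hce0, one_smul]
    rw [this]
    exact hω
  · right
    have : (-1 : GL ι F) * (scalarGL ce⁻¹ (inv_ne_zero hce0) * (e * e)) = (ω : GL ι F) := by
      apply gl_ext
      intro v
      rw [act_mul, act_mul, act_scalarGL, hact, h5, smul_smul]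
      have h6 : ce⁻¹ * -ce = -1 := by field_simp
      rw [h6]
      have h7 : act (-1 : GL ι F) ((-1 : F) • act (ω : GL ι F) v) = act (ω : GL ι F) v := by
        show ((-1 : GL ι F) : Matrix ι ι F) *ᵥ _ = _
        rw [Units.val_neg, Units.val_one, Matrix.neg_mulVec, Matrix.one_mulVec, neg_smul, one_smul,
          neg_neg]
      exact h7
    rw [this]
    exact hω

/-- `-1 ∈ Ω` and `μ(e)⁻¹ e² ∉ Ω` for a similarity `e` with nonsquare multiplier and
`det e = μ(e)^m`: the quotient is `ℤ/4` -/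
theorem inndiagGen_mod_inn_cyclic [Nonempty ι] (hn : 7 ≤ Fintype.card ι) (h2 : (2 : F) ≠ 0)
    (hgen : Cfsg.isometryGroup F Q ≤ RR hQ) (m : ℕ)
    (hm : Fintype.card ι = 2 * m)
    (g₀ : ↥(Cfsg.isometryGroup F Q)) (hg₀ : g₀ ∈ Cfsg.Omega F Q)
    (hval : ((g₀ : GL ι F) : Matrix ι ι F) = -1)
    (e : GL ι F) (ce : F) (hce : ¬ IsSquare ce) (he : ∀ v, Q (act e v) = ce * Q v)
    (hdete : (e : Matrix ι ι F).det = ce ^ m)
    (hs : ∀ hce0 : ce ≠ 0, scalarGL ce⁻¹ (inv_ne_zero hce0) * (e * e) ∉ Cfsg.Geo.omegaGL Q) :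
    ∃ φ : ↥(inndiagGen hQ h2 m hm) →* Multiplicative (ZMod 4), Function.Surjective φ ∧
      φ.ker = (Cfsg.Inn (Cfsg.POmega F Q)).subgroupOf (inndiagGen hQ h2 m hm) := by
  have hce0 : ce ≠ 0 := by
    rintro rfl
    exact hce ⟨0, by simp⟩
  have heG : e ∈ Cfsg.Geo.quadSimilarityGroup (F := F) Q := ⟨Units.mk0 ce hce0, he⟩
  have hg₀' : (g₀ : GL ι F) = -1 := by
    apply Units.ext
    rw [hval, Units.val_neg, Units.val_one]
  have hmue : (mu (⟨e, heG⟩ : ↥(Cfsg.Geo.quadSimilarityGroup (F := F) Q)) : F) = ce :=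
    mu_unique hQ _ ce he
  have heD : conjHom Q ⟨e, heG⟩ ∈ inndiagGen hQ h2 m hm := by
    refine ⟨⟨e, heG⟩, ?_, rfl⟩
    show _ ∈ (chiDet hQ h2 m hm).ker
    rw [MonoidHom.mem_ker, chiDet_eq_one_iff, hmue]
    exact hdete
  apply Cfsg.Agent.Lib.Helper5.SmallQuot.exists_hom_four_cyclic _ _
    (relIndex_inn_inndiagGen_of_neg_mem hQ hn h2 hgen m hm e ce hce he g₀ hg₀ hval)
    (conjHom Q ⟨e, heG⟩) heD
  intro h
  rw [← map_mul] at h
  rcases sq_scalar_omega hQ hn h2 e ce hce0 he heG h with h5 | h5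
  · exact hs hce0 h5
  · apply hs hce0
    have hneg : (-1 : GL ι F) ∈ Cfsg.Geo.omegaGL Q := ⟨g₀, hg₀, hg₀'⟩
    have := mul_mem hneg h5
    rwa [← mul_assoc, neg_mul_neg, one_mul, one_mul] at this

omit [Fintype F] hQ in
lemma conjHom_mem_inn_iff (g : ↥(Cfsg.Geo.quadSimilarityGroup (F := F) Q)) :
    conjHom Q g ∈ Cfsg.Inn (Cfsg.POmega F Q) ↔
      g ∈ ((Cfsg.Geo.omegaGL Q).subgroupOf (Cfsg.Geo.quadSimilarityGroup (F := F) Q)) ⊔
        (conjHom Q).ker := by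
  rw [inn_eq, ← Subgroup.mem_comap, Subgroup.comap_map_eq]

/-- elements of `Ω · scalars` have square multiplier -/
lemma isSquare_mu_of_mem [Nonempty ι] (hn : 7 ≤ Fintype.card ι) (h2 : (2 : F) ≠ 0)
    (g : ↥(Cfsg.Geo.quadSimilarityGroup (F := F) Q))
    (hg : g ∈ ((Cfsg.Geo.omegaGL Q).subgroupOf (Cfsg.Geo.quadSimilarityGroup (F := F) Q)) ⊔
        (conjHom Q).ker) : IsSquare (mu g : F) := by
  rw [Subgroup.mem_sup_of_normal_right] at hg
  obtain ⟨ω, hω, k, hk, rfl⟩ := hg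
  rw [Subgroup.mem_subgroupOf] at hω
  rw [MonoidHom.mem_ker, conjHom_apply] at hk
  obtain ⟨l, hl⟩ := scalar_of_conjT_eq_one hQ hn h2 _ k.2 hk
  rw [mu_mul hQ, Units.val_mul, mu_of_iso hQ ω (omegaGL_le_iso hω), one_mul,
    mu_of_scalar hQ k l hl]
  exact ⟨l, pow_two l⟩

/-- `-1 ∈ Ω` and `μ(e)⁻¹ e² ∈ Ω` for a similarity `e` with nonsquare multiplier and
`det e = μ(e)^m`: the quotient is a Klein four-group -/
theorem inndiagGen_mod_inn_klein [Nonempty ι] (hn : 7 ≤ Fintype.card ι) (h2 : (2 : F) ≠ 0)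
    (hgen : Cfsg.isometryGroup F Q ≤ RR hQ) (m : ℕ)
    (hm : Fintype.card ι = 2 * m)
    (g₀ : ↥(Cfsg.isometryGroup F Q)) (hg₀ : g₀ ∈ Cfsg.Omega F Q)
    (hval : ((g₀ : GL ι F) : Matrix ι ι F) = -1)
    (e : GL ι F) (ce : F) (hce : ¬ IsSquare ce) (he : ∀ v, Q (act e v) = ce * Q v)
    (hdete : (e : Matrix ι ι F).det = ce ^ m)
    (hs : ∀ hce0 : ce ≠ 0, scalarGL ce⁻¹ (inv_ne_zero hce0) * (e * e) ∈ Cfsg.Geo.omegaGL Q) :
    ∃ φ : ↥(inndiagGen hQ h2 m hm) →* Multiplicative (ZMod 2 × ZMod 2), Function.Surjective φ ∧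
      φ.ker = (Cfsg.Inn (Cfsg.POmega F Q)).subgroupOf (inndiagGen hQ h2 m hm) := by
  have hce0 : ce ≠ 0 := by
    rintro rfl
    exact hce ⟨0, by simp⟩
  have heG : e ∈ Cfsg.Geo.quadSimilarityGroup (F := F) Q := ⟨Units.mk0 ce hce0, he⟩
  have hg₀' : (g₀ : GL ι F) = -1 := by
    apply Units.ext
    rw [hval, Units.val_neg, Units.val_one]
  set ee : ↥(Cfsg.Geo.quadSimilarityGroup (F := F) Q) := ⟨e, heG⟩ with hee
  have hmue : (mu ee : F) = ce := mu_unique hQ _ ce he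
  have heD : conjHom Q ee ∈ inndiagGen hQ h2 m hm := by
    refine ⟨ee, ?_, rfl⟩
    show _ ∈ (chiDet hQ h2 m hm).ker
    rw [MonoidHom.mem_ker, chiDet_eq_one_iff, hmue]
    exact hdete
  obtain ⟨x, hx⟩ := exists_nonsing hQ
  have hx' : Q (act e x) ≠ 0 := by rw [he]; exact mul_ne_zero hce0 hx
  -- the element of `SO` outside `Ω`
  have hsO : rf hQ (act e x) * rf hQ x ∈ Cfsg.isometryGroup F Q :=
    mul_mem (rf_mem hQ _) (rf_mem hQ _)
  set ss : ↥(Cfsg.Geo.quadSimilarityGroup (F := F) Q) :=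
    ⟨rf hQ (act e x) * rf hQ x, iso_le_GO hsO⟩ with hss
  have hsSO : ss ∈ (Cfsg.specialIsometryGL F Q).subgroupOf
      (Cfsg.Geo.quadSimilarityGroup (F := F) Q) := by
    rw [Subgroup.mem_subgroupOf]
    unfold Cfsg.specialIsometryGL
    rw [Subgroup.mem_inf]
    refine ⟨hsO, ?_⟩
    show Matrix.GeneralLinearGroup.det (rf hQ (act e x) * rf hQ x) = 1
    apply Units.ext
    show ((rf hQ (act e x) * rf hQ x : GL ι F) : Matrix ι ι F).det = 1
    rw [Units.val_mul, Matrix.det_mul, det_rf hQ _ hx', det_rf hQ x hx]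
    ring
  have hsD : conjHom Q ss ∈ inndiagGen hQ h2 m hm :=
    ⟨ss, SO'_le_chiDet hQ hn h2 m hm hsSO, rfl⟩
  have hsnot : rf hQ (act e x) * rf hQ x ∉ Cfsg.Geo.omegaGL Q := by
    rintro ⟨y, hyΩ', hyv⟩
    have hspin := ((mem_omega_iff hQ h2 hgen y).1 hyΩ').2
    have hyv' : (y : GL ι F) = rf hQ (act e x) * rf hQ x := hyv
    rw [hyv', spin_mul_iff hQ hgen _ _ (rf_mem hQ _) (rf_mem hQ _),
      spin_rf hQ _ hx', spin_rf hQ x hx, he] at hspin
    have hnx : -Q x ≠ 0 := neg_ne_zero.2 hx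
    have h6 : -(ce * Q x) = ce * (-Q x) := by ring
    rw [h6, isSquare_mul_iff hce0 hnx] at hspin
    tauto
  apply Cfsg.Agent.Lib.Helper5.SmallQuot.exists_hom_klein _ _
    (relIndex_inn_inndiagGen_of_neg_mem hQ hn h2 hgen m hm e ce hce he g₀ hg₀ hval)
    (conjHom Q ss) (conjHom Q ee) hsD heD
  · -- the image of `ss` is not inner
    intro h
    rw [conjHom_mem_inn_iff, Subgroup.mem_sup_of_normal_right] at h
    obtain ⟨ω, hω, k, hk, hωk⟩ := h
    rw [Subgroup.mem_subgroupOf] at hω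
    have hωO : (ω : GL ι F) ∈ Cfsg.isometryGroup F Q := omegaGL_le_iso hω
    have hωk' : (ω : GL ι F) * (k : GL ι F) = rf hQ (act e x) * rf hQ x :=
      congrArg Subtype.val hωk
    have hkO : (k : GL ι F) ∈ Cfsg.isometryGroup F Q := by
      have : (k : GL ι F) = (ω : GL ι F)⁻¹ * (rf hQ (act e x) * rf hQ x) := by
        rw [← hωk']; group
      rw [this]
      exact mul_mem (inv_mem hωO) hsO
    rw [MonoidHom.mem_ker, conjHom_apply] at hk
    have hkΩ : (k : GL ι F) ∈ Cfsg.Geo.omegaGL Q := by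
      rcases pm_one_of_conjT_eq_one hQ hn h2 (k : GL ι F) hkO hk with h5 | h5
      · rw [h5]; exact one_mem _
      · rw [h5]; exact ⟨g₀, hg₀, hg₀'⟩
    apply hsnot
    rw [← hωk']
    exact mul_mem hω hkΩ
  · -- the image of `ee` is not inner
    intro h
    rw [conjHom_mem_inn_iff] at h
    have := isSquare_mu_of_mem hQ hn h2 ee h
    rw [hmue] at this
    exact hce this
  · -- they are different modulo inner automorphisms
    intro h
    rw [← map_inv, ← map_mul, conjHom_mem_inn_iff] at h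
    have h3 := isSquare_mu_of_mem hQ hn h2 _ h
    rw [mu_mul hQ, Units.val_mul, hmue] at h3
    have h4 : (mu ss⁻¹ : F) = 1 := by
      apply mu_of_iso hQ
      show ((ss⁻¹ : ↥(Cfsg.Geo.quadSimilarityGroup (F := F) Q)) : GL ι F) ∈ _
      rw [Subgroup.coe_inv]
      exact inv_mem hsO
    rw [h4, one_mul] at h3
    exact hce h3
  · -- the square of `ss` is inner
    rw [← map_mul, conjHom_mem_inn_iff]
    apply Subgroup.mem_sup_left
    rw [Subgroup.mem_subgroupOf]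
    have := sq_mem_omega hQ hgen ⟨rf hQ (act e x) * rf hQ x, hsO⟩
    exact ⟨_, this, rfl⟩
  · -- the square of `ee` is inner
    rw [← map_mul, conjHom_mem_inn_iff]
    have hsc := hs hce0
    set kk : ↥(Cfsg.Geo.quadSimilarityGroup (F := F) Q) :=
      ⟨scalarGL ce hce0, scalarGL_mem_GO hQ ce hce0⟩ with hkk
    have hkker : kk ∈ (conjHom Q).ker := by
      rw [MonoidHom.mem_ker, conjHom_apply]
      exact conjT_eq_one_of_scalar _ _ ce (act_scalarGL ce hce0)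
    have hsG : scalarGL ce⁻¹ (inv_ne_zero hce0) * (e * e) ∈
        Cfsg.Geo.quadSimilarityGroup (F := F) Q := iso_le_GO (omegaGL_le_iso hsc)
    have hdecomp : ee * ee = (⟨_, hsG⟩ : ↥(Cfsg.Geo.quadSimilarityGroup (F := F) Q)) * kk := by
      apply Subtype.ext
      show e * e = scalarGL ce⁻¹ (inv_ne_zero hce0) * (e * e) * scalarGL ce hce0
      apply gl_ext
      intro v
      rw [act_mul, act_mul, act_mul, act_mul, act_scalarGL, act_scalarGL, act_smul, act_smul,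
        smul_smul, inv_mul_cancel₀ hce0, one_smul]
    rw [hdecomp]
    exact mul_mem (Subgroup.mem_sup_left (Subgroup.mem_subgroupOf.2 hsc))
      (Subgroup.mem_sup_right hkker)

end InndiagQuot

end Cfsg.Agent.Lib.Helper5.OrthAut
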