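import Mathlib
import Cfsg.Agent.Lib.Helper5.OrthAut.PGOQuot
import Cfsg.Agent.Lib.Helper5.Orth.SumForm
import Cfsg.Agent.Lib.Helper5.Orth.Universal
import Cfsg.Agent.H9.OrthN

set_option autoImplicit false
set_option linter.unusedSectionVars false
open Cfsg

/-!
Similarities with nonsquare multiplier for the forms `quadFormPlus` and `quadFormMinus`.
-/

namespace Cfsg.Agent.Lib.Helper5.OrthAut

open Matrix Cfsg.Agent.H9.Orth Cfsg.Agent.Lib.Helper5.OrthSN Cfsg.Agent.Lib.Helper5.OrthPar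
open Cfsg.Agent.Lib.Helper5.OrthTv

section SimPM

variable {F : Type*} [Field F] (m : ℕ)

/-- a similarity of the hyperbolic form with multiplier `c` -/
lemma exists_sim_plus (c : F) (hc : c ≠ 0) :
    ∃ d : GL (Fin m ⊕ Fin m) F, ∀ v, Cfsg.quadFormPlus m F (act d v) =
      c * Cfsg.quadFormPlus m F v := by
  refine ⟨blockGL (scalarGL c hc) 1, fun v => ?_⟩
  rw [act_blockGL, act_scalarGL, act_one]
  unfold Cfsg.quadFormPlus
  simp only [Sum.elim_inl, Sum.elim_inr, Pi.smul_apply, smul_eq_mul, Function.comp_apply]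
  rw [Finset.mul_sum]
  apply Finset.sum_congr rfl
  intro i _
  ring

/-- a similarity of the minus-type form with multiplier the value `N(w)` of the binary part -/
lemma exists_sim_minus (a b w₁ w₂ : F) (hw : w₁ ^ 2 + a * w₁ * w₂ + b * w₂ ^ 2 ≠ 0) :
    ∃ d : GL ((Fin m ⊕ Fin m) ⊕ Fin 2) F, ∀ v, Cfsg.quadFormMinus m F a b (act d v) =
      (w₁ ^ 2 + a * w₁ * w₂ + b * w₂ ^ 2) * Cfsg.quadFormMinus m F a b v := by
  have hdet : (!![w₁, -b * w₂; w₂, w₁ + a * w₂] : Matrix (Fin 2) (Fin 2) F).det ≠ 0 := by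
    rw [Matrix.det_fin_two_of]
    intro h
    apply hw
    linear_combination h
  refine ⟨blockGL (blockGL (scalarGL _ hw) 1)
    (Matrix.GeneralLinearGroup.mkOfDetNeZero _ hdet), fun v => ?_⟩
  rw [act_blockGL, act_blockGL, act_scalarGL, act_one]
  have hM : act (Matrix.GeneralLinearGroup.mkOfDetNeZero
      (!![w₁, -b * w₂; w₂, w₁ + a * w₂] : Matrix (Fin 2) (Fin 2) F) hdet) (v ∘ Sum.inr) =
      ![w₁ * v (Sum.inr 0) + -b * w₂ * v (Sum.inr 1),
        w₂ * v (Sum.inr 0) + (w₁ + a * w₂) * v (Sum.inr 1)] := by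
    show (!![w₁, -b * w₂; w₂, w₁ + a * w₂] : Matrix (Fin 2) (Fin 2) F) *ᵥ (v ∘ Sum.inr) = _
    funext k
    fin_cases k
    · simp [Matrix.mulVec, dotProduct, Fin.sum_univ_two]
    · simp [Matrix.mulVec, dotProduct, Fin.sum_univ_two]
  rw [hM]
  unfold Cfsg.quadFormMinus
  simp only [Sum.elim_inl, Sum.elim_inr, Pi.smul_apply, smul_eq_mul, Function.comp_apply,
    Matrix.cons_val_zero, Matrix.cons_val_one]
  have hs : ∑ i : Fin m, (w₁ ^ 2 + a * w₁ * w₂ + b * w₂ ^ 2) * v (Sum.inl (Sum.inl i)) *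
      v (Sum.inl (Sum.inr i)) = (w₁ ^ 2 + a * w₁ * w₂ + b * w₂ ^ 2) *
      ∑ i : Fin m, v (Sum.inl (Sum.inl i)) * v (Sum.inl (Sum.inr i)) := by
    rw [Finset.mul_sum]
    apply Finset.sum_congr rfl
    intro i _
    ring
  rw [hs]
  ring

/-- a similarity of the minus-type form with a nonsquare multiplier -/
lemma exists_sim_minus_nonsquare [Fintype F] (h2 : (2 : F) ≠ 0) (a b : F)
    (hab : ∀ z₁ z₂ : F, z₁ ^ 2 + a * z₁ * z₂ + b * z₂ ^ 2 = 0 → z₁ = 0 ∧ z₂ = 0) :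
    ∃ (d : GL ((Fin m ⊕ Fin m) ⊕ Fin 2) F) (c : F), ¬ IsSquare c ∧
      ∀ v, Cfsg.quadFormMinus m F a b (act d v) = c * Cfsg.quadFormMinus m F a b v := by
  classical
  have hchar : ringChar F ≠ 2 := by
    intro h
    have : CharP F 2 := by rw [← h]; exact ringChar.charP F
    exact h2 (by exact_mod_cast CharP.cast_eq_zero F 2)
  obtain ⟨ν, hν⟩ := FiniteField.exists_nonsquare hchar
  have hQ0 := Cfsg.Agent.H9.Orth.isNondeg_quadFormMinus (F := F) 0 a b hab
  obtain ⟨x, hx⟩ := Cfsg.Agent.Lib.Helper5.OrthUniv.exists_norm_eq hQ0 h2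
    (by simp [Fintype.card_sum]) ν
  unfold Cfsg.quadFormMinus at hx
  simp only [Finset.univ_eq_empty, Finset.sum_empty, zero_add] at hx
  have hν0 : ν ≠ 0 := by
    rintro rfl
    exact hν ⟨0, by ring⟩
  obtain ⟨d, hd⟩ := exists_sim_minus m a b (x (Sum.inr 0)) (x (Sum.inr 1)) (by rw [hx]; exact hν0)
  refine ⟨d, ν, hν, ?_⟩
  intro v
  rw [hd, hx]

/-- a similarity of the hyperbolic form with a nonsquare multiplier -/
lemma exists_sim_plus_nonsquare [Fintype F] (h2 : (2 : F) ≠ 0) :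
    ∃ (d : GL (Fin m ⊕ Fin m) F) (c : F), ¬ IsSquare c ∧
      ∀ v, Cfsg.quadFormPlus m F (act d v) = c * Cfsg.quadFormPlus m F v := by
  classical
  have hchar : ringChar F ≠ 2 := by
    intro h
    have : CharP F 2 := by rw [← h]; exact ringChar.charP F
    exact h2 (by exact_mod_cast CharP.cast_eq_zero F 2)
  obtain ⟨ν, hν⟩ := FiniteField.exists_nonsquare hchar
  have hν0 : ν ≠ 0 := by
    rintro rfl
    exact hν ⟨0, by ring⟩
  obtain ⟨d, hd⟩ := exists_sim_plus m ν hν0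
  exact ⟨d, ν, hν, hd⟩

end SimPM

end Cfsg.Agent.Lib.Helper5.OrthAut
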