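import Mathlib
import Cfsg.Agent.Lib.Helper5.OrthAut.Classes
import Cfsg.Agent.Lib.Helper5.OrthAut.BaseChange
import Cfsg.Agent.Lib.Helper5.OrthAut.InndiagQuot
import Cfsg.Agent.Lib.Helper5.OrthAut.SimPM
import Cfsg.Agent.Lib.Helper5.Orth.SpinorMinus

set_option autoImplicit false
set_option linter.unusedSectionVars false
open Cfsg

/-!
`Inndiag(PΩ⁻_{2m+2}(q))` is the image of the similarities with `det g = μ(g)^(m+1)`.
-/

namespace Cfsg.Agent.Lib.Helper5.OrthCls

open Matrix Cfsg.Agent.H9.Orth Cfsg.Agent.Lib.Helper5.OrthSN Cfsg.Agent.Lib.Helper5.OrthPar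
open Cfsg.Agent.Lib.Helper5.OrthTv Cfsg.Agent.Lib.Helper5.OrthAut Cfsg.Agent.Lib.Helper5.OrthPM

section Squares

lemma ringChar_ne_two_of {K : Type*} [Field K] (h2 : (2 : K) ≠ 0) : ringChar K ≠ 2 := by
  intro h
  have : CharP K 2 := by rw [← h]; exact ringChar.charP K
  exact h2 (by exact_mod_cast CharP.cast_eq_zero K 2)

/-- every element of a finite field of odd order is a square in a quadratic extension -/
lemma isSquare_algebraMap_of_finrank_two {F K : Type*} [Field F] [Fintype F] [Field K] [Fintype K]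
    [Algebra F K] (hodd : Odd (Fintype.card F)) (hfin : Module.finrank F K = 2) (h2 : (2 : K) ≠ 0)
    (x : F) : IsSquare (algebraMap F K x) := by
  by_cases hx : x = 0
  · subst hx
    rw [map_zero]
    exact ⟨0, by ring⟩
  have hcard : Fintype.card K = Fintype.card F ^ 2 := by
    rw [Module.card_eq_pow_finrank (K := F), hfin]
  have hx' : algebraMap F K x ≠ 0 := by
    intro h
    exact hx ((map_eq_zero _).1 h)
  rw [FiniteField.isSquare_iff (ringChar_ne_two_of h2) hx', hcard, ← map_pow]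
  obtain ⟨k, hk⟩ := hodd
  have h3 : Fintype.card F ^ 2 / 2 = (Fintype.card F - 1) * (k + 1) := by
    rw [hk]
    have : (2 * k + 1) ^ 2 = 2 * (2 * k * (k + 1)) + 1 := by ring
    rw [this]
    have h4 : (2 * (2 * k * (k + 1)) + 1) / 2 = 2 * k * (k + 1) := by omega
    rw [h4]
    simp
  rw [h3, pow_mul, FiniteField.pow_card_sub_one_eq_one x hx, one_pow, map_one]

end Squares

section MinusU

variable {K : Type*} [Field K] (m : ℕ)

lemma card_minus : Fintype.card ((Fin m ⊕ Fin m) ⊕ Fin 2) = 2 * (m + 1) := by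
  simp only [Fintype.card_sum, Fintype.card_fin]
  ring

/-- the linear map whose kernel is the maximal totally singular subspace attached to a root `z₀` -/
def minusL (z₀ : K) : ((Fin m ⊕ Fin m) ⊕ Fin 2 → K) →ₗ[K] (Fin m → K) × K :=
  LinearMap.prod (LinearMap.funLeft K K (fun i : Fin m => (Sum.inl (Sum.inr i) : (Fin m ⊕ Fin m) ⊕ Fin 2)))
    (LinearMap.proj (Sum.inr 0) - z₀ • LinearMap.proj (Sum.inr 1))

lemma minusL_apply (z₀ : K) (v : (Fin m ⊕ Fin m) ⊕ Fin 2 → K) :
    minusL m z₀ v = (fun i => v (Sum.inl (Sum.inr i)), v (Sum.inr 0) - z₀ * v (Sum.inr 1)) := rfl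

/-- the maximal totally singular subspace attached to a root `z₀` of `z² + a z + b` -/
def minusU (z₀ : K) : Submodule K ((Fin m ⊕ Fin m) ⊕ Fin 2 → K) := LinearMap.ker (minusL m z₀)

lemma mem_minusU (z₀ : K) (v : (Fin m ⊕ Fin m) ⊕ Fin 2 → K) :
    v ∈ minusU m z₀ ↔ (∀ i, v (Sum.inl (Sum.inr i)) = 0) ∧ v (Sum.inr 0) = z₀ * v (Sum.inr 1) := by
  rw [minusU, LinearMap.mem_ker, minusL_apply, Prod.mk_eq_zero]
  constructor
  · rintro ⟨h1, h2⟩
    exact ⟨fun i => congrFun h1 i, sub_eq_zero.1 h2⟩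
  · rintro ⟨h1, h2⟩
    exact ⟨funext h1, sub_eq_zero.2 h2⟩

lemma minusL_surjective (z₀ : K) : Function.Surjective (minusL m z₀) := by
  rintro ⟨y, t⟩
  refine ⟨Sum.elim (Sum.elim 0 y) ![t, 0], ?_⟩
  rw [minusL_apply]
  simp

lemma minusU_maxTS (a b z₀ : K) (hz : z₀ ^ 2 + a * z₀ + b = 0) :
    IsMaxTS (Cfsg.quadFormMinus m K a b) (minusU m z₀) := by
  constructor
  · intro v hv
    rw [mem_minusU] at hv
    unfold Cfsg.quadFormMinus
    rw [hv.2]
    have : ∑ i : Fin m, v (Sum.inl (Sum.inl i)) * v (Sum.inl (Sum.inr i)) = 0 := by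
      apply Finset.sum_eq_zero
      intro i _
      rw [hv.1 i, mul_zero]
    rw [this]
    linear_combination (v (Sum.inr 1)) ^ 2 * hz
  · have h1 := LinearMap.finrank_range_add_finrank_ker (minusL m z₀)
    rw [LinearMap.range_eq_top.2 (minusL_surjective m z₀), finrank_top, Module.finrank_prod,
      Module.finrank_fintype_fun_eq_card, Module.finrank_fintype_fun_eq_card, Module.finrank_self,
      card_minus, Fintype.card_fin] at h1
    rw [card_minus]
    show 2 * Module.finrank K ↥(LinearMap.ker (minusL m z₀)) = 2 * (m + 1)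
    omega

end MinusU

section Minus

variable {F : Type*} [Field F] (m : ℕ) (a b : F)

lemma quadFormMinus_comp {K : Type*} [Field K] (f : F →+* K)
    (v : (Fin m ⊕ Fin m) ⊕ Fin 2 → F) :
    Cfsg.quadFormMinus m K (f a) (f b) (f ∘ v) = f (Cfsg.quadFormMinus m F a b v) := by
  unfold Cfsg.quadFormMinus
  simp only [Function.comp_apply, map_add, map_sum, map_mul, map_pow]

variable [Fintype F]

/-- over a quadratic extension `K`, the base change of a similarity `g` preserves the two classes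
iff `det g = μ(g)^(m+1)` -/
theorem preserves_ext_iff (hodd : Odd (Fintype.card F))
    (hab : ∀ z₁ z₂ : F, z₁ ^ 2 + a * z₁ * z₂ + b * z₂ ^ 2 = 0 → z₁ = 0 ∧ z₂ = 0)
    (K : Type*) [Field K] [Algebra F K] (hfin : Module.finrank F K = 2)
    (g : ↥(Cfsg.Geo.quadSimilarityGroup (F := F) (Cfsg.quadFormMinus m F a b))) :
    Cfsg.PreservesSingularClasses
        (Cfsg.quadFormMinus m K (algebraMap F K a) (algebraMap F K b))
        (((g : GL ((Fin m ⊕ Fin m) ⊕ Fin 2) F) :
          Matrix ((Fin m ⊕ Fin m) ⊕ Fin 2) ((Fin m ⊕ Fin m) ⊕ Fin 2) F).map (algebraMap F K)) ↔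
      ((g : GL ((Fin m ⊕ Fin m) ⊕ Fin 2) F) :
          Matrix ((Fin m ⊕ Fin m) ⊕ Fin 2) ((Fin m ⊕ Fin m) ⊕ Fin 2) F).det = (mu g : F) ^ (m + 1) := by
  classical
  have h2 := two_ne_zero_of_odd_card hodd
  have hab' := disc_ne_zero h2 a b hab
  set f := algebraMap F K with hf
  have hinj : Function.Injective f := (algebraMap F K).injective
  haveI : Module.Finite F K := Module.finite_of_finrank_pos (by rw [hfin]; norm_num)
  haveI : Finite K := Module.finite_of_finite F
  letI : Fintype K := Fintype.ofFinite K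
  have h2K : (2 : K) ≠ 0 := by
    have : (2 : K) = f 2 := (map_ofNat f 2).symm
    rw [this]
    intro h
    exact h2 ((map_eq_zero f).1 h)
  have hsq : ∀ x : F, IsSquare (f x) := isSquare_algebraMap_of_finrank_two hodd hfin h2K
  have hQK : Cfsg.Geo.IsNondegenerateQuadraticForm (Cfsg.quadFormMinus m K (f a) (f b)) := by
    apply quadFormMinus_nondeg
    have : 4 * f b - f a ^ 2 = f (4 * b - a ^ 2) := by
      rw [map_sub, map_mul, map_pow, map_ofNat]
    rw [this]
    intro h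
    exact hab' ((map_eq_zero f).1 h)
  have hcardK : Fintype.card K ≠ 2 := by
    intro h
    have hc := Module.card_eq_pow_finrank (K := F) (V := K)
    rw [hfin, h] at hc
    have : 1 < Fintype.card F := Fintype.one_lt_card
    nlinarith
  have hgenK := Cfsg.Agent.H9.Orth.iso_le_RR hQK (Or.inl hcardK)
  obtain ⟨δ, hδ⟩ := hsq (a ^ 2 - 4 * b)
  set z₀ : K := (-f a + δ) / 2 with hz₀
  have hz : z₀ ^ 2 + f a * z₀ + f b = 0 := by
    rw [hz₀]
    field_simp
    rw [map_sub, map_mul, map_pow, map_ofNat] at hδ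
    linear_combination -hδ
  have h₀ := minusU_maxTS m (f a) (f b) z₀ hz
  have hμ0 : f (mu g : F) ≠ 0 := by
    intro h
    exact Units.ne_zero _ ((map_eq_zero f).1 h)
  have hsim : ∀ w, Cfsg.quadFormMinus m K (f a) (f b)
      (act (Matrix.GeneralLinearGroup.map f (g : GL ((Fin m ⊕ Fin m) ⊕ Fin 2) F)) w) =
      f (mu g : F) * Cfsg.quadFormMinus m K (f a) (f b) w :=
    sim_baseChange f hQK (quadFormMinus_comp m a b f) h2K (g : GL ((Fin m ⊕ Fin m) ⊕ Fin 2) F)
      (mu g : F) (mu_spec g)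
  set gK : ↥(Cfsg.Geo.quadSimilarityGroup (F := K) (Cfsg.quadFormMinus m K (f a) (f b))) :=
    ⟨Matrix.GeneralLinearGroup.map f (g : GL ((Fin m ⊕ Fin m) ⊕ Fin 2) F),
      ⟨Units.mk0 _ hμ0, hsim⟩⟩ with hgK
  have hmuK : (mu gK : K) = f (mu g : F) := mu_unique hQK gK _ hsim
  haveI : Nonempty ((Fin m ⊕ Fin m) ⊕ Fin 2) := ⟨Sum.inr 0⟩
  have key := preserves_iff_of_sq hQK h2K hgenK (m + 1) (card_minus m) (minusU m z₀) h₀ gK
    (by rw [hmuK]; exact hsq _)
  rw [hmuK] at key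
  have hdet : ((gK : GL ((Fin m ⊕ Fin m) ⊕ Fin 2) K) :
      Matrix ((Fin m ⊕ Fin m) ⊕ Fin 2) ((Fin m ⊕ Fin m) ⊕ Fin 2) K).det =
      f ((g : GL ((Fin m ⊕ Fin m) ⊕ Fin 2) F) :
        Matrix ((Fin m ⊕ Fin m) ⊕ Fin 2) ((Fin m ⊕ Fin m) ⊕ Fin 2) F).det := det_map f _
  rw [hdet, ← map_pow] at key
  have hval : ((gK : GL ((Fin m ⊕ Fin m) ⊕ Fin 2) K) :
      Matrix ((Fin m ⊕ Fin m) ⊕ Fin 2) ((Fin m ⊕ Fin m) ⊕ Fin 2) K) =
      ((g : GL ((Fin m ⊕ Fin m) ⊕ Fin 2) F) :
          Matrix ((Fin m ⊕ Fin m) ⊕ Fin 2) ((Fin m ⊕ Fin m) ⊕ Fin 2) F).map f := rfl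
  rw [← hval, key]
  exact hinj.eq_iff

/-- a similarity of the minus-type form preserves the two classes (over a quadratic extension)
iff `det g = μ(g)^(m+1)` -/
theorem preserves_minus_iff (hodd : Odd (Fintype.card F))
    (hab : ∀ z₁ z₂ : F, z₁ ^ 2 + a * z₁ * z₂ + b * z₂ ^ 2 = 0 → z₁ = 0 ∧ z₂ = 0)
    (g : ↥(Cfsg.Geo.quadSimilarityGroup (F := F) (Cfsg.quadFormMinus m F a b))) :
    Cfsg.PreservesSingularClassesMinus m a b
        ((g : GL ((Fin m ⊕ Fin m) ⊕ Fin 2) F) :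
          Matrix ((Fin m ⊕ Fin m) ⊕ Fin 2) ((Fin m ⊕ Fin m) ⊕ Fin 2) F) ↔
      ((g : GL ((Fin m ⊕ Fin m) ⊕ Fin 2) F) :
          Matrix ((Fin m ⊕ Fin m) ⊕ Fin 2) ((Fin m ⊕ Fin m) ⊕ Fin 2) F).det = (mu g : F) ^ (m + 1) := by
  classical
  constructor
  · rintro ⟨K, iK, iA, hfin, hP⟩
    exact (preserves_ext_iff m a b hodd hab K hfin g).1 hP
  · intro hdet
    set p : Polynomial F := Polynomial.X ^ 2 + Polynomial.C a * Polynomial.X + Polynomial.C b
      with hp
    have hdeg : p.natDegree = 2 := by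
      rw [hp]
      compute_degree!
    have hp0 : p ≠ 0 := by
      intro h
      rw [h] at hdeg
      simp at hdeg
    have hirr : Irreducible p := by
      apply Polynomial.irreducible_of_degree_le_three_of_not_isRoot
      · rw [hdeg]; simp
      · intro x hx
        have h1 : x ^ 2 + a * x + b = 0 := by
          have := hx
          rw [Polynomial.IsRoot.def, hp] at this
          simpa using this
        have := hab x 1 (by linear_combination h1)
        exact one_ne_zero this.2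
    haveI : Fact (Irreducible p) := ⟨hirr⟩
    refine ⟨AdjoinRoot p, inferInstance, inferInstance, ?_, ?_⟩
    · rw [(AdjoinRoot.powerBasis hp0).finrank, AdjoinRoot.powerBasis_dim, hdeg]
    · have hfin : Module.finrank F (AdjoinRoot p) = 2 := by
        rw [(AdjoinRoot.powerBasis hp0).finrank, AdjoinRoot.powerBasis_dim, hdeg]
      exact (preserves_ext_iff m a b hodd hab (AdjoinRoot p) hfin g).2 hdet

/-- `Inndiag(PΩ⁻_{2m+2}(q))` is the image of the similarities with `det g = μ(g)^(m+1)` -/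
theorem inndiagMinus_eq (hodd : Odd (Fintype.card F))
    (hab : ∀ z₁ z₂ : F, z₁ ^ 2 + a * z₁ * z₂ + b * z₂ ^ 2 = 0 → z₁ = 0 ∧ z₂ = 0) :
    Cfsg.inndiagPOmegaMinus m F a b =
      inndiagGen (quadFormMinus_nondeg (F := F) m a b
          (disc_ne_zero (two_ne_zero_of_odd_card hodd) a b hab))
        (two_ne_zero_of_odd_card hodd) (m + 1) (card_minus m) := by
  classical
  have h2 := two_ne_zero_of_odd_card hodd
  have hQ := quadFormMinus_nondeg (F := F) m a b (disc_ne_zero h2 a b hab)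
  set K := (chiDet hQ h2 (m + 1) (card_minus m)).ker with hK
  set R : Subgroup (GL ((Fin m ⊕ Fin m) ⊕ Fin 2) F) :=
    K.map (Cfsg.Geo.quadSimilarityGroup (F := F) (Cfsg.quadFormMinus m F a b)).subtype with hR
  have hRle : R ≤ Cfsg.Geo.quadSimilarityGroup (F := F) (Cfsg.quadFormMinus m F a b) := by
    rintro _ ⟨g, -, rfl⟩
    exact g.2
  have hpred : (fun β : Cfsg.POmega F (Cfsg.quadFormMinus m F a b) ≃*
        Cfsg.POmega F (Cfsg.quadFormMinus m F a b) =>
      Cfsg.IsInnerDiagonalAutPOmegaMinus m a b β) =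
      (fun β => ∃ g : GL ((Fin m ⊕ Fin m) ⊕ Fin 2) F, g ∈ R ∧
        Cfsg.IsInducedBySemilinearPOmega (Cfsg.quadFormMinus m F a b) g (RingEquiv.refl F) β) := by
    funext β
    apply propext
    unfold Cfsg.IsInnerDiagonalAutPOmegaMinus
    constructor
    · rintro ⟨g, hgG, hpres, hind⟩
      refine ⟨g, ⟨⟨g, hgG⟩, ?_, rfl⟩, hind⟩
      rw [SetLike.mem_coe, hK, MonoidHom.mem_ker, chiDet_eq_one_iff]
      exact (preserves_minus_iff m a b hodd hab ⟨g, hgG⟩).1 hpres
    · rintro ⟨g, ⟨g', hg', rfl⟩, hind⟩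
      refine ⟨g', g'.2, ?_, hind⟩
      rw [SetLike.mem_coe, hK, MonoidHom.mem_ker, chiDet_eq_one_iff] at hg'
      exact (preserves_minus_iff m a b hodd hab g').2 hg'
  unfold Cfsg.inndiagPOmegaMinus
  rw [hpred, autSubgroupOf_eq R hRle]
  unfold inndiagGen
  congr 1
  rw [hR]
  exact Subgroup.comap_map_eq_self_of_injective (Subgroup.subtype_injective _) K

end Minus

end Cfsg.Agent.Lib.Helper5.OrthCls
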