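import Mathlib
import Cfsg.Agent.Lib.Helper5.OrthAut.Classes
import Cfsg.Agent.Lib.Helper5.OrthAut.InndiagQuot
import Cfsg.Agent.Lib.Helper5.OrthAut.SimPM
import Cfsg.Agent.Lib.Helper5.Orth.PlusGLSpin

set_option autoImplicit false
set_option linter.unusedSectionVars false
open Cfsg

/-!
`Inndiag(PΩ⁺_{2m}(q))` is the image of the similarities with `det g = μ(g)^m`.
-/

namespace Cfsg.Agent.Lib.Helper5.OrthCls

open Matrix Cfsg.Agent.H9.Orth Cfsg.Agent.Lib.Helper5.OrthSN Cfsg.Agent.Lib.Helper5.OrthPar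
open Cfsg.Agent.Lib.Helper5.OrthTv Cfsg.Agent.Lib.Helper5.OrthAut Cfsg.Agent.Lib.Helper5.OrthPM

section Plus

variable {F : Type*} [Field F] (m : ℕ)

lemma card_sum_fin : Fintype.card (Fin m ⊕ Fin m) = 2 * m := by
  rw [Fintype.card_sum, Fintype.card_fin]
  ring

/-- the similarity `(x, y) ↦ (c x, y)` of the hyperbolic form -/
def dPlus (c : F) (hc : c ≠ 0) : GL (Fin m ⊕ Fin m) F := blockGL (scalarGL c hc) 1

lemma act_dPlus (c : F) (hc : c ≠ 0) (v : Fin m ⊕ Fin m → F) :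
    act (dPlus m c hc) v = Sum.elim (c • (v ∘ Sum.inl)) (v ∘ Sum.inr) := by
  rw [dPlus, act_blockGL, act_scalarGL, act_one]

lemma dPlus_sim (c : F) (hc : c ≠ 0) (v : Fin m ⊕ Fin m → F) :
    Cfsg.quadFormPlus m F (act (dPlus m c hc) v) = c * Cfsg.quadFormPlus m F v := by
  rw [act_dPlus]
  unfold Cfsg.quadFormPlus
  simp only [Sum.elim_inl, Sum.elim_inr, Pi.smul_apply, smul_eq_mul, Function.comp_apply]
  rw [Finset.mul_sum]
  apply Finset.sum_congr rfl
  intro i _
  ring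

lemma det_dPlus (c : F) (hc : c ≠ 0) :
    ((dPlus m c hc : GL (Fin m ⊕ Fin m) F) : Matrix (Fin m ⊕ Fin m) (Fin m ⊕ Fin m) F).det =
      c ^ m := by
  rw [dPlus, blockGL_val, Matrix.det_fromBlocks_zero₂₁, det_scalarGL, Fintype.card_fin,
    Units.val_one, Matrix.det_one, mul_one]

lemma mapS_dPlus_stdU (c : F) (hc : c ≠ 0) :
    mapS (dPlus m c hc) (stdU (F := F) m) = stdU (F := F) m := by
  have key : ∀ (v : Fin m ⊕ Fin m → F) (i : Fin m),
      act (dPlus m c hc) v (Sum.inr i) = v (Sum.inr i) := by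
    intro v i
    rw [act_dPlus]
    rfl
  ext v
  rw [mem_mapS', mem_stdU, mem_stdU]
  constructor
  · intro h i
    have := key (act (dPlus m c hc)⁻¹ v) i
    rw [act_act_inv] at this
    rw [this]
    exact h i
  · intro h i
    have := key (act (dPlus m c hc)⁻¹ v) i
    rw [act_act_inv] at this
    rw [← this]
    exact h i

lemma act_tinv_scalarGL (c : F) (hc : c ≠ 0) (w : Fin m → F) :
    act (tinv (scalarGL c hc : GL (Fin m) F)) w = c⁻¹ • w := by
  show ((tinv (scalarGL c hc : GL (Fin m) F) : GL (Fin m) F) : Matrix (Fin m) (Fin m) F) *ᵥ w = _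
  rw [tinv_val]
  show (c⁻¹ • (1 : Matrix (Fin m) (Fin m) F))ᵀ *ᵥ w = _
  rw [Matrix.transpose_smul, Matrix.transpose_one, Matrix.smul_mulVec, Matrix.one_mulVec]

/-- `c⁻¹ d²` is the image of the scalar matrix `c` under `GL_m → O⁺_{2m}` -/
lemma scalar_mul_dPlus_sq (c : F) (hc : c ≠ 0) :
    scalarGL c⁻¹ (inv_ne_zero hc) * (dPlus m c hc * dPlus m c hc) =
      ((plusHom F m (scalarGL c hc) : ↥(Cfsg.isometryGroup F (Cfsg.quadFormPlus m F))) :
        GL (Fin m ⊕ Fin m) F) := by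
  apply gl_ext
  intro v
  rw [act_mul, act_mul, act_scalarGL, act_dPlus, act_dPlus]
  show _ = act (blockGL (scalarGL c hc) (tinv (scalarGL c hc))) v
  rw [act_blockGL, act_scalarGL, act_tinv_scalarGL]
  funext k
  rcases k with i | i
  · simp only [Pi.smul_apply, Sum.elim_inl, Function.comp_apply, smul_eq_mul]
    field_simp
  · simp only [Pi.smul_apply, Sum.elim_inr, Function.comp_apply, smul_eq_mul]

variable [Fintype F]

/-- a similarity of the hyperbolic form preserves the two classes of maximal totally singular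
subspaces iff `det g = μ(g)^m` -/
theorem preserves_iff_plus (hodd : Odd (Fintype.card F)) [Nonempty (Fin m ⊕ Fin m)]
    (g : ↥(Cfsg.Geo.quadSimilarityGroup (F := F) (Cfsg.quadFormPlus m F))) :
    Cfsg.PreservesSingularClasses (Cfsg.quadFormPlus m F)
        ((g : GL (Fin m ⊕ Fin m) F) : Matrix (Fin m ⊕ Fin m) (Fin m ⊕ Fin m) F) ↔
      ((g : GL (Fin m ⊕ Fin m) F) : Matrix (Fin m ⊕ Fin m) (Fin m ⊕ Fin m) F).det =
        (mu g : F) ^ m := by
  classical
  have h2 := two_ne_zero_of_odd_card hodd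
  have hQ := quadFormPlus_nondeg (F := F) m
  have hgen := Cfsg.Agent.H9.Orth.iso_le_RR hQ (Or.inl (card_ne_two_of_odd_card hodd))
  have hchar : ringChar F ≠ 2 := by
    intro h
    have : CharP F 2 := by rw [← h]; exact ringChar.charP F
    exact h2 (by exact_mod_cast CharP.cast_eq_zero F 2)
  obtain ⟨ν, hν⟩ := FiniteField.exists_nonsquare hchar
  have hν0 : ν ≠ 0 := by
    rintro rfl
    exact hν ⟨0, by ring⟩
  exact preserves_iff hQ h2 hgen m (card_sum_fin m) (stdU (F := F) m) (stdU_maxTS m)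
    (dPlus m ν hν0) ν hν (dPlus_sim m ν hν0) (det_dPlus m ν hν0) (mapS_dPlus_stdU m ν hν0) g

/-- `Inndiag(PΩ⁺_{2m}(q))` is the image of the similarities with `det g = μ(g)^m` -/
theorem inndiagPlus_eq (hodd : Odd (Fintype.card F)) [Nonempty (Fin m ⊕ Fin m)] :
    Cfsg.inndiagPOmegaPlus m F =
      inndiagGen (quadFormPlus_nondeg (F := F) m) (two_ne_zero_of_odd_card hodd) m
        (card_sum_fin m) := by
  classical
  have h2 := two_ne_zero_of_odd_card hodd
  have hQ := quadFormPlus_nondeg (F := F) m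
  set K := (chiDet hQ h2 m (card_sum_fin m)).ker with hK
  set R : Subgroup (GL (Fin m ⊕ Fin m) F) :=
    K.map (Cfsg.Geo.quadSimilarityGroup (F := F) (Cfsg.quadFormPlus m F)).subtype with hR
  have hRle : R ≤ Cfsg.Geo.quadSimilarityGroup (F := F) (Cfsg.quadFormPlus m F) := by
    rintro _ ⟨g, -, rfl⟩
    exact g.2
  have hpred : (fun β : Cfsg.POmega F (Cfsg.quadFormPlus m F) ≃* Cfsg.POmega F (Cfsg.quadFormPlus m F) =>
      Cfsg.IsInnerDiagonalAutPOmegaPlus m β) =
      (fun β => ∃ g : GL (Fin m ⊕ Fin m) F, g ∈ R ∧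
        Cfsg.IsInducedBySemilinearPOmega (Cfsg.quadFormPlus m F) g (RingEquiv.refl F) β) := by
    funext β
    apply propext
    unfold Cfsg.IsInnerDiagonalAutPOmegaPlus
    constructor
    · rintro ⟨g, hgG, hpres, hind⟩
      refine ⟨g, ⟨⟨g, hgG⟩, ?_, rfl⟩, hind⟩
      rw [SetLike.mem_coe, hK, MonoidHom.mem_ker, chiDet_eq_one_iff]
      exact (preserves_iff_plus m hodd ⟨g, hgG⟩).1 hpres
    · rintro ⟨g, ⟨g', hg', rfl⟩, hind⟩
      refine ⟨g', g'.2, ?_, hind⟩
      rw [SetLike.mem_coe, hK, MonoidHom.mem_ker, chiDet_eq_one_iff] at hg'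
      exact (preserves_iff_plus m hodd g').2 hg'
  unfold Cfsg.inndiagPOmegaPlus
  rw [hpred, autSubgroupOf_eq R hRle]
  unfold inndiagGen
  congr 1
  rw [hR]
  exact Subgroup.comap_map_eq_self_of_injective (Subgroup.subtype_injective _) K

end Plus

end Cfsg.Agent.Lib.Helper5.OrthCls
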