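import Mathlib
import Cfsg.Agent.Lib.Helper5.OrthAut.InndiagMinus
import Cfsg.Agent.Lib.Helper5.OrthAut.InndiagPlus
import Cfsg.Agent.Lib.Helper5.Orth.SpinorSum
import Cfsg.Agent.Lib.Helper5.Orth.PlusGLSpin

set_option autoImplicit false
set_option linter.unusedSectionVars false
open Cfsg

/-!
The order-4 element of `Inndiag(PΩ⁻_{2m+2}(q)) / Inn` for `m` even.
-/

namespace Cfsg.Agent.Lib.Helper5.OrthCls

open Matrix Cfsg.Agent.H9.Orth Cfsg.Agent.Lib.Helper5.OrthSN Cfsg.Agent.Lib.Helper5.OrthPar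
open Cfsg.Agent.Lib.Helper5.OrthTv Cfsg.Agent.Lib.Helper5.OrthAut Cfsg.Agent.Lib.Helper5.OrthPM

section Z4

variable {F : Type*} [Field F] (m : ℕ) (a b : F)

lemma quadFormMinus_elim (x : Fin m ⊕ Fin m → F) (y : Fin 2 → F) :
    Cfsg.quadFormMinus m F a b (Sum.elim x y) =
      Cfsg.quadFormPlus m F x + (y 0 ^ 2 + a * y 0 * y 1 + b * y 1 ^ 2) := rfl

lemma quadFormMinus_split (v : (Fin m ⊕ Fin m) ⊕ Fin 2 → F) :
    Cfsg.quadFormMinus m F a b v =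
      Cfsg.quadFormPlus m F (v ∘ Sum.inl) +
        (v (Sum.inr 0) ^ 2 + a * v (Sum.inr 0) * v (Sum.inr 1) + b * v (Sum.inr 1) ^ 2) := rfl

lemma blockGL_one_mem_minus (g : GL (Fin m ⊕ Fin m) F)
    (hg : g ∈ Cfsg.isometryGroup F (Cfsg.quadFormPlus m F)) :
    blockGL g (1 : GL (Fin 2) F) ∈ Cfsg.isometryGroup F (Cfsg.quadFormMinus m F a b) := by
  rw [mem_isometryGroup_iff]
  intro v
  rw [act_blockGL, act_one, quadFormMinus_elim, Q_act g hg]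
  rfl

/-- the embedding `O⁺_{2m} → O⁻_{2m+2}` -/
def minusEmb : ↥(Cfsg.isometryGroup F (Cfsg.quadFormPlus m F)) →*
    ↥(Cfsg.isometryGroup F (Cfsg.quadFormMinus m F a b)) where
  toFun g := ⟨blockGL (g : GL (Fin m ⊕ Fin m) F) 1, blockGL_one_mem_minus m a b _ g.2⟩
  map_one' := by
    apply Subtype.ext
    apply Units.ext
    show ((blockGL (1 : GL (Fin m ⊕ Fin m) F) (1 : GL (Fin 2) F) :
      GL ((Fin m ⊕ Fin m) ⊕ Fin 2) F) :
      Matrix ((Fin m ⊕ Fin m) ⊕ Fin 2) ((Fin m ⊕ Fin m) ⊕ Fin 2) F) = 1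
    rw [blockGL_val]
    simp
  map_mul' x y := by
    apply Subtype.ext
    apply Units.ext
    show ((blockGL ((x : GL (Fin m ⊕ Fin m) F) * (y : GL (Fin m ⊕ Fin m) F)) (1 : GL (Fin 2) F) :
      GL ((Fin m ⊕ Fin m) ⊕ Fin 2) F) :
      Matrix ((Fin m ⊕ Fin m) ⊕ Fin 2) ((Fin m ⊕ Fin m) ⊕ Fin 2) F) =
      ((blockGL (x : GL (Fin m ⊕ Fin m) F) (1 : GL (Fin 2) F) :
        GL ((Fin m ⊕ Fin m) ⊕ Fin 2) F) :
        Matrix ((Fin m ⊕ Fin m) ⊕ Fin 2) ((Fin m ⊕ Fin m) ⊕ Fin 2) F) *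
      ((blockGL (y : GL (Fin m ⊕ Fin m) F) (1 : GL (Fin 2) F) :
        GL ((Fin m ⊕ Fin m) ⊕ Fin 2) F) :
        Matrix ((Fin m ⊕ Fin m) ⊕ Fin 2) ((Fin m ⊕ Fin m) ⊕ Fin 2) F)
    rw [blockGL_val, blockGL_val, blockGL_val, Matrix.fromBlocks_multiply]
    simp

lemma minusEmb_val (g : ↥(Cfsg.isometryGroup F (Cfsg.quadFormPlus m F))) :
    ((minusEmb m a b g : ↥(Cfsg.isometryGroup F (Cfsg.quadFormMinus m F a b))) :
      GL ((Fin m ⊕ Fin m) ⊕ Fin 2) F) = blockGL (g : GL (Fin m ⊕ Fin m) F) 1 := rfl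

lemma minusEmb_mem_omega (g : ↥(Cfsg.isometryGroup F (Cfsg.quadFormPlus m F)))
    (hg : g ∈ Cfsg.Omega F (Cfsg.quadFormPlus m F)) :
    minusEmb m a b g ∈ Cfsg.Omega F (Cfsg.quadFormMinus m F a b) := by
  have h1 : (Cfsg.Omega F (Cfsg.quadFormPlus m F)).map (minusEmb m a b) ≤
      Cfsg.Omega F (Cfsg.quadFormMinus m F a b) := by
    show (commutator _).map _ ≤ commutator _
    rw [commutator_def, commutator_def, Subgroup.map_commutator]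
    exact Subgroup.commutator_mono le_top le_top
  exact h1 ⟨g, hg, rfl⟩

lemma minusMat_det (w₁ w₂ : F) :
    (!![w₁, -b * w₂; w₂, w₁ + a * w₂] : Matrix (Fin 2) (Fin 2) F).det =
      w₁ ^ 2 + a * w₁ * w₂ + b * w₂ ^ 2 := by
  rw [Matrix.det_fin_two_of]
  ring

/-- multiplication by `w₁ + w₂ θ` on the binary part -/
noncomputable def minusMat (w₁ w₂ : F) (hw : w₁ ^ 2 + a * w₁ * w₂ + b * w₂ ^ 2 ≠ 0) :
    GL (Fin 2) F :=
  Matrix.GeneralLinearGroup.mkOfDetNeZero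
    (!![w₁, -b * w₂; w₂, w₁ + a * w₂] : Matrix (Fin 2) (Fin 2) F)
    (by rw [minusMat_det]; exact hw)

lemma act_minusMat (w₁ w₂ : F) (hw : w₁ ^ 2 + a * w₁ * w₂ + b * w₂ ^ 2 ≠ 0) (y : Fin 2 → F) :
    act (minusMat a b w₁ w₂ hw) y =
      ![w₁ * y 0 + -b * w₂ * y 1, w₂ * y 0 + (w₁ + a * w₂) * y 1] := by
  show (!![w₁, -b * w₂; w₂, w₁ + a * w₂] : Matrix (Fin 2) (Fin 2) F) *ᵥ y = _
  funext k
  fin_cases k
  · simp [Matrix.mulVec, dotProduct, Fin.sum_univ_two]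
  · simp [Matrix.mulVec, dotProduct, Fin.sum_univ_two]

/-- the similarity with multiplier `N(w)`: scalar `N(w)` on the `x`'s, multiplication by `w`
on the binary part -/
noncomputable def eMinus (w₁ w₂ : F) (hw : w₁ ^ 2 + a * w₁ * w₂ + b * w₂ ^ 2 ≠ 0) :
    GL ((Fin m ⊕ Fin m) ⊕ Fin 2) F :=
  blockGL (blockGL (scalarGL (w₁ ^ 2 + a * w₁ * w₂ + b * w₂ ^ 2) hw) 1) (minusMat a b w₁ w₂ hw)

lemma act_eMinus (w₁ w₂ : F) (hw : w₁ ^ 2 + a * w₁ * w₂ + b * w₂ ^ 2 ≠ 0)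
    (v : (Fin m ⊕ Fin m) ⊕ Fin 2 → F) :
    act (eMinus m a b w₁ w₂ hw) v =
      Sum.elim (Sum.elim ((w₁ ^ 2 + a * w₁ * w₂ + b * w₂ ^ 2) • (v ∘ Sum.inl ∘ Sum.inl))
          (v ∘ Sum.inl ∘ Sum.inr))
        ![w₁ * v (Sum.inr 0) + -b * w₂ * v (Sum.inr 1),
          w₂ * v (Sum.inr 0) + (w₁ + a * w₂) * v (Sum.inr 1)] := by
  rw [eMinus, act_blockGL, act_blockGL, act_scalarGL, act_one, act_minusMat]
  rfl

lemma eMinus_sim (w₁ w₂ : F) (hw : w₁ ^ 2 + a * w₁ * w₂ + b * w₂ ^ 2 ≠ 0)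
    (v : (Fin m ⊕ Fin m) ⊕ Fin 2 → F) :
    Cfsg.quadFormMinus m F a b (act (eMinus m a b w₁ w₂ hw) v) =
      (w₁ ^ 2 + a * w₁ * w₂ + b * w₂ ^ 2) * Cfsg.quadFormMinus m F a b v := by
  rw [act_eMinus]
  unfold Cfsg.quadFormMinus
  simp only [Sum.elim_inl, Sum.elim_inr, Pi.smul_apply, smul_eq_mul, Function.comp_apply,
    Matrix.cons_val_zero, Matrix.cons_val_one]
  have hs : ∑ i : Fin m, (w₁ ^ 2 + a * w₁ * w₂ + b * w₂ ^ 2) * v (Sum.inl (Sum.inl i)) *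
      v (Sum.inl (Sum.inr i)) = (w₁ ^ 2 + a * w₁ * w₂ + b * w₂ ^ 2) *
      ∑ i : Fin m, v (Sum.inl (Sum.inl i)) * v (Sum.inl (Sum.inr i)) := by
    rw [Finset.mul_sum]
    apply Finset.sum_congr rfl
    intro i _
    ring
  rw [hs]
  ring

lemma det_eMinus (w₁ w₂ : F) (hw : w₁ ^ 2 + a * w₁ * w₂ + b * w₂ ^ 2 ≠ 0) :
    ((eMinus m a b w₁ w₂ hw : GL ((Fin m ⊕ Fin m) ⊕ Fin 2) F) :
      Matrix ((Fin m ⊕ Fin m) ⊕ Fin 2) ((Fin m ⊕ Fin m) ⊕ Fin 2) F).det =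
      (w₁ ^ 2 + a * w₁ * w₂ + b * w₂ ^ 2) ^ (m + 1) := by
  rw [eMinus, blockGL_val, Matrix.det_fromBlocks_zero₂₁, blockGL_val,
    Matrix.det_fromBlocks_zero₂₁, det_scalarGL, Fintype.card_fin, Units.val_one, Matrix.det_one,
    mul_one]
  show _ * (!![w₁, -b * w₂; w₂, w₁ + a * w₂] : Matrix (Fin 2) (Fin 2) F).det = _
  rw [minusMat_det]
  ring

lemma Q_binVec (y : Fin 2 → F) :
    Cfsg.quadFormMinus m F a b (Sum.elim 0 y) = y 0 ^ 2 + a * y 0 * y 1 + b * y 1 ^ 2 := by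
  rw [quadFormMinus_elim]
  unfold Cfsg.quadFormPlus
  simp

lemma pol_binVec (v : (Fin m ⊕ Fin m) ⊕ Fin 2 → F) (y : Fin 2 → F) :
    pol (Cfsg.quadFormMinus m F a b) v (Sum.elim 0 y) =
      2 * v (Sum.inr 0) * y 0 + a * (v (Sum.inr 0) * y 1 + y 0 * v (Sum.inr 1)) +
        2 * b * v (Sum.inr 1) * y 1 := by
  show QuadraticMap.polar _ _ _ = _
  rw [Cfsg.Agent.Lib.Helper5.OrthPM.polar_quadFormMinus]
  simp

variable (hQ : Cfsg.Geo.IsNondegenerateQuadraticForm (Cfsg.quadFormMinus m F a b))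

lemma act_rf_bin (y : Fin 2 → F) (hy : y 0 ^ 2 + a * y 0 * y 1 + b * y 1 ^ 2 ≠ 0)
    (v : (Fin m ⊕ Fin m) ⊕ Fin 2 → F) :
    act (rf hQ (Sum.elim 0 y)) v =
      Sum.elim (v ∘ Sum.inl) (fun j => v (Sum.inr j) -
        (y 0 ^ 2 + a * y 0 * y 1 + b * y 1 ^ 2)⁻¹ *
          (2 * v (Sum.inr 0) * y 0 + a * (v (Sum.inr 0) * y 1 + y 0 * v (Sum.inr 1)) +
            2 * b * v (Sum.inr 1) * y 1) * y j) := by
  rw [act_rf hQ _ (by rw [Q_binVec]; exact hy), Q_binVec, pol_binVec]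
  funext k
  rcases k with k | k
  · simp
  · simp

/-- `N(w)⁻¹ e²` is the image of the scalar `N(w)` of `GL_m` times the rotation `r_w r_1` of the
binary part -/
lemma scalar_mul_eMinus_sq (w₁ w₂ : F) (hw : w₁ ^ 2 + a * w₁ * w₂ + b * w₂ ^ 2 ≠ 0) :
    scalarGL (w₁ ^ 2 + a * w₁ * w₂ + b * w₂ ^ 2)⁻¹ (inv_ne_zero hw) *
        (eMinus m a b w₁ w₂ hw * eMinus m a b w₁ w₂ hw) =
      ((minusEmb m a b (plusHom F m (scalarGL (w₁ ^ 2 + a * w₁ * w₂ + b * w₂ ^ 2) hw)) :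
        ↥(Cfsg.isometryGroup F (Cfsg.quadFormMinus m F a b))) :
        GL ((Fin m ⊕ Fin m) ⊕ Fin 2) F) *
      (rf hQ (Sum.elim 0 ![w₁, w₂]) * rf hQ (Sum.elim 0 ![1, 0])) := by
  apply gl_ext
  intro v
  rw [act_mul, act_mul, act_scalarGL, act_eMinus, act_eMinus, minusEmb_val, act_mul, act_mul,
    act_rf_bin m a b hQ ![1, 0] (by simp), act_rf_bin m a b hQ ![w₁, w₂] (by simpa using hw)]
  show _ = act (blockGL (blockGL (scalarGL (w₁ ^ 2 + a * w₁ * w₂ + b * w₂ ^ 2) hw)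
    (tinv (scalarGL (w₁ ^ 2 + a * w₁ * w₂ + b * w₂ ^ 2) hw))) 1) _
  rw [act_blockGL, act_blockGL, act_scalarGL, act_tinv_scalarGL, act_one]
  funext k
  rcases k with (i | i) | j
  · simp only [Pi.smul_apply, Sum.elim_inl, Function.comp_apply, smul_eq_mul]
    field_simp
  · simp only [Pi.smul_apply, Sum.elim_inl, Sum.elim_inr, Function.comp_apply, smul_eq_mul]
  · fin_cases j
    · simp only [Pi.smul_apply, Sum.elim_inl, Sum.elim_inr, Function.comp_apply, smul_eq_mul,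
        Matrix.cons_val_zero, Matrix.cons_val_one, Fin.zero_eta, Fin.isValue]
      have h1 : (1 : F) ^ 2 + a * 1 * 0 + b * 0 ^ 2 = 1 := by ring
      rw [h1, inv_one]
      generalize hc : w₁ ^ 2 + a * w₁ * w₂ + b * w₂ ^ 2 = c at hw ⊢
      field_simp
      rw [← hc]
      ring
    · simp only [Pi.smul_apply, Sum.elim_inl, Sum.elim_inr, Function.comp_apply, smul_eq_mul,
        Matrix.cons_val_zero, Matrix.cons_val_one, Fin.mk_one, Fin.isValue]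
      have h1 : (1 : F) ^ 2 + a * 1 * 0 + b * 0 ^ 2 = 1 := by ring
      rw [h1, inv_one]
      generalize hc : w₁ ^ 2 + a * w₁ * w₂ + b * w₂ ^ 2 = c at hw ⊢
      field_simp
      rw [← hc]
      ring

include hQ in
/-- for `m` even and `N(w)` a nonsquare, `N(w)⁻¹ e² ∉ Ω` -/
theorem scalar_mul_eMinus_sq_not_mem [Fintype F] (hodd : Odd (Fintype.card F)) (hm : Even m)
    (w₁ w₂ : F) (hw : w₁ ^ 2 + a * w₁ * w₂ + b * w₂ ^ 2 ≠ 0)
    (hns : ¬ IsSquare (w₁ ^ 2 + a * w₁ * w₂ + b * w₂ ^ 2)) :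
    scalarGL (w₁ ^ 2 + a * w₁ * w₂ + b * w₂ ^ 2)⁻¹ (inv_ne_zero hw) *
        (eMinus m a b w₁ w₂ hw * eMinus m a b w₁ w₂ hw) ∉
      Cfsg.Geo.omegaGL (Cfsg.quadFormMinus m F a b) := by
  classical
  have h2 := two_ne_zero_of_odd_card hodd
  have hcard := card_ne_two_of_odd_card hodd
  set c := w₁ ^ 2 + a * w₁ * w₂ + b * w₂ ^ 2 with hc
  set A := minusEmb m a b (plusHom F m (scalarGL c hw)) with hA
  have hAmem : A ∈ Cfsg.Omega F (Cfsg.quadFormMinus m F a b) := by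
    apply minusEmb_mem_omega
    rw [plusHom_mem_omega_iff (Or.inl hcard), det_scalarGL, Fintype.card_fin]
    obtain ⟨k, rfl⟩ := hm
    exact ⟨c ^ k, by ring⟩
  set xw : (Fin m ⊕ Fin m) ⊕ Fin 2 → F := Sum.elim 0 ![w₁, w₂] with hxw
  set x1 : (Fin m ⊕ Fin m) ⊕ Fin 2 → F := Sum.elim 0 ![1, 0] with hx1
  have hQw : Cfsg.quadFormMinus m F a b xw = c := by
    rw [hxw, Q_binVec]
    simp [hc]
  have hQ1 : Cfsg.quadFormMinus m F a b x1 = 1 := by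
    rw [hx1, Q_binVec]
    simp
  have hiff := prod_R_mem_omega_iff_all hQ (Or.inl hcard) [xw, x1] (by
    intro x hx
    simp only [List.mem_cons, List.not_mem_nil, or_false] at hx
    rcases hx with rfl | rfl
    · rw [hQw]; exact hw
    · rw [hQ1]; exact one_ne_zero)
  simp only [List.map_cons, List.map_nil, List.prod_cons, List.prod_nil, mul_one,
    List.length_cons, List.length_nil] at hiff
  rw [hQw, hQ1, mul_one] at hiff
  have hRR : R hQ xw * R hQ x1 ∉ Cfsg.Omega F (Cfsg.quadFormMinus m F a b) := by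
    intro h
    exact hns ((hiff.1 h).2 h2)
  rintro ⟨y, hy, hyv⟩
  apply hRR
  have hdec := scalar_mul_eMinus_sq m a b hQ w₁ w₂ hw
  have hyeq : y = A * (R hQ xw * R hQ x1) := by
    apply Subtype.ext
    rw [Subgroup.coe_mul, Subgroup.coe_mul, R_val, R_val]
    exact hyv.trans hdec
  have : R hQ xw * R hQ x1 = A⁻¹ * y := by
    rw [hyeq]; group
  rw [this]
  exact Subgroup.mul_mem _ (Subgroup.inv_mem _ hAmem) hy

end Z4

end Cfsg.Agent.Lib.Helper5.OrthCls
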