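import Mathlib
import Cfsg.Agent.Lib.Helper5.OrthAut.InndiagMinusZ4
import Cfsg.Agent.Lib.Helper5.Orth.SpinorMinusNeg
import Cfsg.Agent.Lib.Helper5.Orth.SpinorDiag

set_option autoImplicit false
set_option linter.unusedSectionVars false
open Cfsg

/-!
`Inndiag(PΩ⁻_{2m+2}(q)) / Inn`: cyclic of order 4 if `m` is even and `q ≡ 3 (mod 4)`, of order 2
otherwise.
-/

namespace Cfsg.Agent.Lib.Helper5.OrthCls

open Matrix Cfsg.Agent.H9.Orth Cfsg.Agent.Lib.Helper5.OrthSN Cfsg.Agent.Lib.Helper5.OrthPar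
open Cfsg.Agent.Lib.Helper5.OrthTv Cfsg.Agent.Lib.Helper5.OrthAut Cfsg.Agent.Lib.Helper5.OrthPM

section Main

variable {F : Type*} [Field F] [Fintype F] (m : ℕ) (a b : F)

lemma pow_succ_mod_four_iff (hodd : Odd (Fintype.card F)) :
    Fintype.card F ^ (m + 1) % 4 = 3 ↔ (Even m ∧ Fintype.card F % 4 = 3) := by
  have hpow := pow_mod_four_eq_one (Fintype.card F) (m + 1) hodd
  have hq' : Fintype.card F % 4 = 1 ∨ Fintype.card F % 4 = 3 := by
    obtain ⟨k, hk⟩ := hodd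
    omega
  have hpowodd : Fintype.card F ^ (m + 1) % 4 = 1 ∨ Fintype.card F ^ (m + 1) % 4 = 3 := by
    have : Odd (Fintype.card F ^ (m + 1)) := hodd.pow
    obtain ⟨k, hk⟩ := this
    omega
  constructor
  · intro h3
    have hne : ¬ (Even (m + 1) ∨ Fintype.card F % 4 = 1) := by
      intro h
      have := hpow.2 h
      omega
    push Not at hne
    refine ⟨?_, by omega⟩
    have := hne.1
    rw [Nat.not_even_iff_odd] at this
    obtain ⟨k, hk⟩ := this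
    exact ⟨k, by omega⟩
  · rintro ⟨hme, hq3⟩
    rcases hpowodd with h1 | h3
    · rcases hpow.1 h1 with h | h
      · exfalso
        obtain ⟨k, hk⟩ := hme
        obtain ⟨l, hl⟩ := h
        omega
      · omega
    · exact h3

/-- a nonsquare value of the anisotropic binary form -/
lemma exists_binary_nonsquare (h2 : (2 : F) ≠ 0)
    (hab : ∀ z₁ z₂ : F, z₁ ^ 2 + a * z₁ * z₂ + b * z₂ ^ 2 = 0 → z₁ = 0 ∧ z₂ = 0) :
    ∃ w₁ w₂ : F, ¬ IsSquare (w₁ ^ 2 + a * w₁ * w₂ + b * w₂ ^ 2) := by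
  classical
  obtain ⟨ν, hν⟩ := FiniteField.exists_nonsquare (ringChar_ne_two_of h2)
  have hQ0 := Cfsg.Agent.H9.Orth.isNondeg_quadFormMinus (F := F) 0 a b hab
  obtain ⟨x, hx⟩ := Cfsg.Agent.Lib.Helper5.OrthUniv.exists_norm_eq hQ0 h2
    (by simp [Fintype.card_sum]) ν
  unfold Cfsg.quadFormMinus at hx
  simp only [Finset.univ_eq_empty, Finset.sum_empty, zero_add] at hx
  exact ⟨x (Sum.inr 0), x (Sum.inr 1), by rw [hx]; exact hν⟩

variable (hQ : Cfsg.Geo.IsNondegenerateQuadraticForm (Cfsg.quadFormMinus m F a b))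

theorem minus_mod_inn_cyclic (hodd : Odd (Fintype.card F)) (hm : 3 ≤ m)
    (hab : ∀ z₁ z₂ : F, z₁ ^ 2 + a * z₁ * z₂ + b * z₂ ^ 2 = 0 → z₁ = 0 ∧ z₂ = 0)
    (h2 : (2 : F) ≠ 0) (hc : Even m ∧ Fintype.card F % 4 = 3) :
    ∃ φ : ↥(inndiagGen hQ h2 (m + 1) (card_minus m)) →* Multiplicative (ZMod 4),
      Function.Surjective φ ∧
      φ.ker = (Cfsg.Inn (Cfsg.POmega F (Cfsg.quadFormMinus m F a b))).subgroupOf
        (inndiagGen hQ h2 (m + 1) (card_minus m)) := by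
  classical
  have hcard := card_minus m
  have : Nonempty ((Fin m ⊕ Fin m) ⊕ Fin 2) := ⟨Sum.inr 0⟩
  have hn : 7 ≤ Fintype.card ((Fin m ⊕ Fin m) ⊕ Fin 2) := by rw [hcard]; omega
  have hgen := Cfsg.Agent.H9.Orth.iso_le_RR hQ (Or.inl (card_ne_two_of_odd_card hodd))
  have hiff := minus_neg_one_iff (F := F) m a b hodd hab
  obtain ⟨g₀, hg₀, hval⟩ := hiff.2 ((pow_succ_mod_four_iff m hodd).2 hc)
  obtain ⟨w₁, w₂, hns⟩ := exists_binary_nonsquare a b h2 hab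
  have hw : w₁ ^ 2 + a * w₁ * w₂ + b * w₂ ^ 2 ≠ 0 := by
    intro h
    rw [h] at hns
    exact hns ⟨0, by ring⟩
  exact inndiagGen_mod_inn_cyclic hQ hn h2 hgen (m + 1) hcard
    g₀ hg₀ hval (eMinus m a b w₁ w₂ hw) _ hns (eMinus_sim m a b _ _ hw) (det_eMinus m a b _ _ hw)
    (fun _ => scalar_mul_eMinus_sq_not_mem m a b hQ hodd hc.1 _ _ hw hns)

theorem minus_mod_inn_two (hodd : Odd (Fintype.card F)) (hm : 3 ≤ m)
    (hab : ∀ z₁ z₂ : F, z₁ ^ 2 + a * z₁ * z₂ + b * z₂ ^ 2 = 0 → z₁ = 0 ∧ z₂ = 0)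
    (h2 : (2 : F) ≠ 0) (hc : ¬ (Even m ∧ Fintype.card F % 4 = 3)) :
    ∃ φ : ↥(inndiagGen hQ h2 (m + 1) (card_minus m)) →* Multiplicative (ZMod 2),
      Function.Surjective φ ∧
      φ.ker = (Cfsg.Inn (Cfsg.POmega F (Cfsg.quadFormMinus m F a b))).subgroupOf
        (inndiagGen hQ h2 (m + 1) (card_minus m)) := by
  classical
  have hcard := card_minus m
  have : Nonempty ((Fin m ⊕ Fin m) ⊕ Fin 2) := ⟨Sum.inr 0⟩
  have hn : 7 ≤ Fintype.card ((Fin m ⊕ Fin m) ⊕ Fin 2) := by rw [hcard]; omega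
  have hgen := Cfsg.Agent.H9.Orth.iso_le_RR hQ (Or.inl (card_ne_two_of_odd_card hodd))
  have hiff := minus_neg_one_iff (F := F) m a b hodd hab
  obtain ⟨d, c, hcns, hd⟩ := exists_sim_minus_nonsquare (F := F) m h2 a b hab
  exact inndiagGen_mod_inn_two hQ hn h2 hgen (m + 1) hcard d c hcns hd
    (fun hex => hc ((pow_succ_mod_four_iff m hodd).1 (hiff.1 hex)))

end Main

end Cfsg.Agent.Lib.Helper5.OrthCls
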